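import Cfsg.Agent.H62.AutAlternating

/-! Automorphisms of alternating groups preserving the three-cycles. -/

set_option autoImplicit false

namespace Cfsg.Agent.H89

open Equiv Cfsg.Agent.H62

variable {n : ℕ}

/-- An automorphism of `A_n` preserving three-cycles is a conjugation (adapted from `conjNormal_surjective`). -/
theorem exists_conjNormal_eq (hn : 4 ≤ n) (φ : MulAut (alternatingGroup (Fin n)))
    (h3 : ∀ x : alternatingGroup (Fin n), (x : Perm (Fin n)).IsThreeCycle →
      (φ x : Perm (Fin n)).IsThreeCycle) :
    ∃ σ : Perm (Fin n), MulAut.conjNormal σ = φ := by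
  classical
  let p : Fin n := ⟨0, by omega⟩
  let q : Fin n := ⟨1, by omega⟩
  let r : Fin n := ⟨2, by omega⟩
  let s : Fin n := ⟨3, by omega⟩
  have hpq : p ≠ q := by simp [p, q, Fin.ext_iff]
  let I := {c : Fin n // c ≠ p ∧ c ≠ q}
  let X : I → alternatingGroup (Fin n) := fun c =>
    ⟨cyc3 p q c.1, Perm.mem_alternatingGroup.2 (cyc3_sign hpq c.2.1.symm)⟩
  let Y : I → Perm (Fin n) := fun c => (φ (X c) : Perm (Fin n))
  have hY3 : ∀ c, (Y c).IsThreeCycle := fun c =>
    h3 (X c) (cyc3_isThreeCycle hpq c.2.1.symm c.2.2.symm)
  have hXinj : ∀ c d, X c = X d → c = d := fun c d h => by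
    have := congrArg (fun f : alternatingGroup (Fin n) => (f : Perm (Fin n)) q) h
    simp only [X, cyc3, Perm.mul_apply, Equiv.swap_apply_right, Equiv.swap_apply_left] at this
    exact Subtype.ext this
  have hedge : ∀ c d : I, c ≠ d → ∃ a, Y c a ≠ a ∧ Y d a = Y c a := by
    intro c d hcd
    obtain ⟨h2, h1⟩ := cyc3_mul_involution hpq c.2.1 c.2.2 d.2.1 d.2.2 (fun h => hcd (Subtype.ext h))
    have hprod : Y c * Y d = ((φ (X c * X d) : alternatingGroup (Fin n)) : Perm (Fin n)) := by
      rw [map_mul]; rfl
    refine exists_common_edge (hY3 c) (hY3 d) ?_ ?_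
    · have : (X c * X d) ^ 2 = 1 := Subtype.ext h2
      rw [hprod, ← Subgroup.coe_pow, ← map_pow, this, map_one]; rfl
    · rw [hprod]
      intro h
      have h' : φ (X c * X d) = 1 := Subtype.ext h
      exact h1 (congrArg Subtype.val ((map_eq_one_iff φ φ.injective).1 h'))
  let cr : I := ⟨r, by simp [p, r, Fin.ext_iff], by simp [q, r, Fin.ext_iff]⟩
  let cs : I := ⟨s, by simp [p, s, Fin.ext_iff], by simp [q, s, Fin.ext_iff]⟩
  have hrs : cr ≠ cs := fun h => by
    have := congrArg Subtype.val h
    simp [cr, cs, r, s, Fin.ext_iff] at this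
  obtain ⟨a, ha, hsa⟩ := hedge cr cs hrs
  set b := Y cr a with hb
  have hall : ∀ c, Y c a = b := by
    intro c
    by_cases hc1 : c = cr
    · rw [hc1]
    by_cases hc2 : c = cs
    · rw [hc2]; exact hsa
    by_contra hne
    obtain ⟨u, hu, hu'⟩ := hedge cr c (Ne.symm hc1)
    obtain ⟨v, hv, hv'⟩ := hedge cs c (Ne.symm hc2)
    set A := Y cr
    set B := Y cs
    set C := Y c
    have hBa : B a ≠ a := by rw [hsa]; exact ha
    have hC3 := hY3 c
    have huc : u ∈ A.support := Perm.mem_support.2 hu
    have hvc : v ∈ B.support := Perm.mem_support.2 hv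
    rw [three_support (hY3 cr) ha, ← hb] at huc
    rw [three_support (hY3 cs) hBa, hsa] at hvc
    simp only [Finset.mem_insert, Finset.mem_singleton] at huc hvc
    have hcd : A b ≠ B b := by
      intro h
      refine hrs (hXinj _ _ (φ.injective (Subtype.ext ?_)))
      show A = B
      have eA : A = cyc3 a b (A b) := three_eq_cyc3 (hY3 cr) ha
      have eB : B = cyc3 a (B a) (B (B a)) := three_eq_cyc3 (hY3 cs) hBa
      rw [hsa] at eB
      rw [eA, eB, h]
    have hA3 : A (A b) = a := three_apply_three (hY3 cr) a
    have hB3 : B (B b) = a := by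
      have := three_apply_three (hY3 cs) a
      rwa [hsa] at this
    rcases huc with rfl | rfl | rfl
    · exact hne hu'
    · rcases hvc with rfl | rfl | rfl
      · exact hne (hv'.trans hsa)
      · exact hcd (hu'.symm.trans hv')
      · rw [hB3] at hv'
        -- `b → A b` and `B b → a`, four distinct moved points
        have m1 : C b ≠ b := fun h => hu (hu' ▸ h)
        have m2 : C (B b) ≠ B b := fun h => hv (by rw [hB3]; exact hv'.symm.trans h)
        have m3 : C (A b) ≠ A b := fun h => hu (by
          have := C.injective (h.trans hu'.symm)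
          rw [this])
        have m4 : C a ≠ a := fun h => m2 (by
          have := C.injective (hv'.trans h.symm)
          rw [this]; exact h)
        have hsub : ({a, b, A b, B b} : Finset (Fin n)) ⊆ C.support := by
          intro w hw
          simp only [Finset.mem_insert, Finset.mem_singleton] at hw
          rw [Perm.mem_support]
          rcases hw with rfl | rfl | rfl | rfl <;> assumption
        have hcard : ({a, b, A b, B b} : Finset (Fin n)).card = 4 := by
          have e1 : a ≠ b := fun h => ha h.symm
          have e2 : a ≠ A b := fun h => by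
            have := hA3; rw [← h] at this; exact ha this
          have e3 : a ≠ B b := fun h => by
            have := hB3; rw [← h, hsa] at this; exact ha this
          have e4 : b ≠ A b := fun h => hu h.symm
          have e5 : b ≠ B b := fun h => by
            have h' : B a = B b := by rw [hsa]; exact h
            exact ha (B.injective h').symm
          simp [e1, e2, e3, e4, e5, hcd]
        have := Finset.card_le_card hsub
        rw [hcard, hC3.card_support] at this
        omega
    · rw [hA3] at hu'
      rcases hvc with rfl | rfl | rfl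
      · exact hne (hv'.trans hsa)
      · have m1 : C b ≠ b := fun h => hv (hv' ▸ h)
        have m2 : C (A b) ≠ A b := fun h => hu (by rw [hA3]; exact hu'.symm.trans h)
        have m3 : C (B b) ≠ B b := fun h => hv (by
          have := C.injective (h.trans hv'.symm)
          rw [this])
        have m4 : C a ≠ a := fun h => m2 (by
          have := C.injective (hu'.trans h.symm)
          rw [this]; exact h)
        have hsub : ({a, b, A b, B b} : Finset (Fin n)) ⊆ C.support := by
          intro w hw
          simp only [Finset.mem_insert, Finset.mem_singleton] at hw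
          rw [Perm.mem_support]
          rcases hw with rfl | rfl | rfl | rfl <;> assumption
        have hcard : ({a, b, A b, B b} : Finset (Fin n)).card = 4 := by
          have e1 : a ≠ b := fun h => ha h.symm
          have e2 : a ≠ A b := fun h => by
            have := hA3; rw [← h] at this; exact ha this
          have e3 : a ≠ B b := fun h => by
            have := hB3; rw [← h, hsa] at this; exact ha this
          have e4 : b ≠ A b := fun h => by
            have h' : A a = A b := by rw [← hb]; exact h
            exact ha (A.injective h').symm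
          have e5 : b ≠ B b := fun h => hv h.symm
          simp [e1, e2, e3, e4, e5, hcd]
        have := Finset.card_le_card hsub
        rw [hcard, hC3.card_support] at this
        omega
      · rw [hB3] at hv'
        exact hcd (C.injective (hu'.trans hv'.symm))
  let f : Fin n → Fin n := fun x =>
    if h : x = p then a else if h' : x = q then b else Y ⟨x, h, h'⟩ b
  have hfI : ∀ c : I, f c.1 = Y c b := fun c => by simp [f, c.2.1, c.2.2]
  have hfp : f p = a := by simp [f]
  have hfq : f q = b := by simp [f, hpq.symm]
  have hne : ∀ c : I, Y c b ≠ a ∧ Y c b ≠ b := by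
    intro c
    have h3 := three_apply_three (hY3 c) a
    rw [hall] at h3
    refine ⟨fun h => ?_, fun h => ?_⟩
    · rw [h, hall] at h3; exact ha h3
    · exact ha ((Y c).injective ((hall c).trans h.symm)).symm
  have hYeq : ∀ c, Y c = cyc3 a b (Y c b) := fun c => by
    have := three_eq_cyc3 (hY3 c) (a := a) (by rw [hall]; exact ha)
    rwa [hall] at this
  have hf : Function.Injective f := by
    intro x y hxy
    by_cases hx : x = p <;> by_cases hy : y = p
    · exact hx.trans hy.symm
    · rw [hx, hfp] at hxy
      by_cases hy' : y = q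
      · rw [hy', hfq] at hxy; exact absurd hxy.symm ha
      · rw [hfI ⟨y, hy, hy'⟩] at hxy; exact absurd hxy.symm (hne _).1
    · rw [hy, hfp] at hxy
      by_cases hx' : x = q
      · rw [hx', hfq] at hxy; exact absurd hxy ha
      · rw [hfI ⟨x, hx, hx'⟩] at hxy; exact absurd hxy (hne _).1
    · by_cases hx' : x = q <;> by_cases hy' : y = q
      · exact hx'.trans hy'.symm
      · rw [hx', hfq, hfI ⟨y, hy, hy'⟩] at hxy; exact absurd hxy.symm (hne _).2
      · rw [hy', hfq, hfI ⟨x, hx, hx'⟩] at hxy; exact absurd hxy (hne _).2
      · rw [hfI ⟨x, hx, hx'⟩, hfI ⟨y, hy, hy'⟩] at hxy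
        have : X ⟨x, hx, hx'⟩ = X ⟨y, hy, hy'⟩ := φ.injective (Subtype.ext (by
          show Y _ = Y _
          rw [hYeq, hYeq ⟨y, hy, hy'⟩, hxy]))
        exact congrArg Subtype.val (hXinj _ _ this)
  let σ : Perm (Fin n) := Equiv.ofBijective f (Finite.injective_iff_bijective.1 hf)
  refine ⟨σ, ?_⟩
  let ψ : alternatingGroup (Fin n) →* Perm (Fin n) :=
    (alternatingGroup (Fin n)).subtype.comp φ.toMonoidHom
  let χ : alternatingGroup (Fin n) →* Perm (Fin n) :=
    (alternatingGroup (Fin n)).subtype.comp (MulAut.conjNormal σ).toMonoidHom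
  suffices hψ : χ = ψ by
    refine MulEquiv.ext fun x => Subtype.ext ?_
    exact DFunLike.congr_fun hψ x
  let E := MonoidHom.eqLocus χ ψ
  have hle := alt_le_of_cyc3 (E.map (alternatingGroup (Fin n)).subtype) (p := p) (q := q)
    (fun x hx hx' => by
      refine ⟨X ⟨x, hx, hx'⟩, ?_, rfl⟩
      show σ * cyc3 p q x * σ⁻¹ = Y ⟨x, hx, hx'⟩
      have hs : ∀ u v, σ * swap u v * σ⁻¹ = swap (σ u) (σ v) := fun u v =>
        (Equiv.swap_apply_apply σ u v).symm
      calc σ * cyc3 p q x * σ⁻¹ = (σ * swap p x * σ⁻¹) * (σ * swap p q * σ⁻¹) := by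
            simp [cyc3, mul_assoc]
        _ = cyc3 a b (Y ⟨x, hx, hx'⟩ b) := by
            rw [hs, hs, cyc3, ← hfI ⟨x, hx, hx'⟩, ← hfp, ← hfq]; rfl
        _ = Y ⟨x, hx, hx'⟩ := (hYeq _).symm) hpq
  refine MonoidHom.ext fun x => ?_
  obtain ⟨y, hy, he⟩ := hle x.2
  rw [← (Subtype.ext he : y = x)]
  exact hy


end Cfsg.Agent.H89
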