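import Mathlib
import Cfsg.Prelude.Def_PLocal
import Cfsg.Agent.H35.Regular

/-!
Powers in regular `p`-groups.
-/

set_option autoImplicit false

namespace Cfsg.Agent.H89

open Subgroup
open scoped commutatorElement

variable {G : Type*} [Group G] [Finite G] {p : ℕ} [Fact p.Prime]

/-- The equivalence `a^q = b^q ↔ (ab⁻¹)^q = 1` on a subgroup. -/
def PowEqOn (q : ℕ) (H : Subgroup G) : Prop :=
  ∀ a ∈ H, ∀ b ∈ H, a ^ q = b ^ q ↔ (a * b⁻¹) ^ q = 1

omit [Finite G] in
theorem PowEqOn.mul_eq_one {q : ℕ} {H : Subgroup G} (h : PowEqOn q H) {x y : G} (hx : x ∈ H)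
    (hy : y ∈ H) (h1 : x ^ q = 1) (h2 : y ^ q = 1) : (x * y) ^ q = 1 := by
  have := (h x hx y⁻¹ (inv_mem hy)).1 (by rw [h1, inv_pow, h2, inv_one])
  rwa [inv_inv] at this

/-- For a non-commuting pair, `⟨a⟩·⟨a,b⟩'` is a proper subgroup of `⟨a,b⟩`. -/
theorem card_zpowers_sup_commutator_lt (hG : IsPGroup p G) {a b : G} (hab : ¬ Commute a b) :
    Nat.card ↥(zpowers a ⊔ ⁅closure ({a, b} : Set G), closure ({a, b} : Set G)⁆) <
      Nat.card ↥(closure ({a, b} : Set G)) := by
  set K := closure ({a, b} : Set G) with hK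
  have ha : a ∈ K := subset_closure (Or.inl rfl)
  have hb : b ∈ K := subset_closure (Or.inr rfl)
  have hle : zpowers a ⊔ ⁅K, K⁆ ≤ K := sup_le (zpowers_le.2 ha) (commutator_le_self K)
  refine (card_le_of_le hle).lt_of_ne fun e => hab ?_
  have hM := eq_of_le_of_card_ge hle e.ge
  have : Group.IsNilpotent K := (hG.to_subgroup K).isNilpotent
  have hz : (zpowers a).subgroupOf K = ⊤ := by
    refine H35.eq_top_of_sup_commutator (eq_top_iff.2 ?_)
    rw [← map_le_map_iff_of_injective K.subtype_injective, ← MonoidHom.range_eq_map,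
      range_subtype, Subgroup.map_sup, subgroupOf_map_subtype, commutator_def, map_commutator,
      ← MonoidHom.range_eq_map, range_subtype, inf_of_le_left (zpowers_le.2 ha)]
    exact hM.ge
  obtain ⟨i, hi⟩ := mem_zpowers_iff.1 (subgroupOf_eq_top.1 hz hb)
  rw [← hi]
  exact (Commute.refl a).zpow_right i

/-- With the equivalence on the proper subgroups: `a^q` commutes with `b` iff `[b,a]^q = 1`. -/
theorem commute_pow_iff_of_powEqOn (hG : IsPGroup p G) {a b : G} (hab : ¬ Commute a b) (q : ℕ)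
    (ih : ∀ H : Subgroup G, Nat.card H < Nat.card (closure ({a, b} : Set G)) → PowEqOn q H) :
    Commute (a ^ q) b ↔ ⁅b, a⁆ ^ q = 1 := by
  set K := closure ({a, b} : Set G)
  have hc : ⁅b, a⁆ ∈ ⁅K, K⁆ :=
    commutator_mem_commutator (subset_closure (Or.inr rfl)) (subset_closure (Or.inl rfl))
  have hmem : b * a * b⁻¹ ∈ zpowers a ⊔ ⁅K, K⁆ := by
    rw [show b * a * b⁻¹ = ⁅b, a⁆ * a by rw [commutatorElement_def]; group]
    exact mul_mem (mem_sup_right hc) (mem_sup_left (mem_zpowers a))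
  have h := ih _ (card_zpowers_sup_commutator_lt hG hab) (b * a * b⁻¹) hmem a
    (mem_sup_left (mem_zpowers a))
  rw [conj_pow, ← commutatorElement_def] at h
  rw [← h, mul_inv_eq_iff_eq_mul]
  exact ⟨fun hh => hh.eq.symm, fun hh => hh.symm⟩

/-- If `[b,a]^q = 1` then the derived subgroup of `⟨a,b⟩` has no nontrivial `q`-th powers. -/
theorem powerClosure_commutator_eq_bot (hG : IsPGroup p G) {a b : G} (hab : ¬ Commute a b) (k : ℕ)
    (ih : ∀ H : Subgroup G, Nat.card H < Nat.card (closure ({a, b} : Set G)) → PowEqOn (p ^ k) H)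
    (hc : ⁅b, a⁆ ^ (p ^ k) = 1) :
    Cfsg.powerClosure p k ⁅closure ({a, b} : Set G), closure ({a, b} : Set G)⁆ = ⊥ := by
  set K := closure ({a, b} : Set G) with hK
  set D := ⁅K, K⁆ with hD
  have hP : PowEqOn (p ^ k) D := ih D (lt_of_le_of_lt
    (card_le_of_le le_sup_right) (card_zpowers_sup_commutator_lt hG hab))
  let N : Subgroup G :=
    { carrier := {g | g ∈ D ∧ g ^ (p ^ k) = 1}
      one_mem' := ⟨one_mem _, one_pow _⟩
      mul_mem' := fun {x y} hx hy => ⟨mul_mem hx.1 hy.1, hP.mul_eq_one hx.1 hy.1 hx.2 hy.2⟩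
      inv_mem' := fun {x} hx => ⟨inv_mem hx.1, by rw [inv_pow, hx.2, inv_one]⟩ }
  have hN : ∀ g ∈ K, ∀ x ∈ N, g * x * g⁻¹ ∈ N := fun g hg x hx =>
    ⟨H35.conj_mem_commutator_self hg hx.1, by rw [conj_pow, hx.2, mul_one, mul_inv_cancel]⟩
  have hbaN : ⁅b, a⁆ ∈ N :=
    ⟨commutator_mem_commutator (subset_closure (Or.inr rfl)) (subset_closure (Or.inl rfl)), hc⟩
  -- commutators with a fixed element form a subgroup
  have key : ∀ v ∈ K, (∀ g ∈ ({a, b} : Set G), ⁅g, v⁆ ∈ N) → ∀ u ∈ K, ⁅u, v⁆ ∈ N := by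
    intro v _ hgen u hu
    induction hu using closure_induction with
    | mem g hg => exact hgen g hg
    | one => rw [commutatorElement_one_left]; exact one_mem _
    | mul x y hx _ ihx ihy =>
      rw [show ⁅x * y, v⁆ = (x * ⁅y, v⁆ * x⁻¹) * ⁅x, v⁆ by simp only [commutatorElement_def]; group]
      exact mul_mem (hN x hx _ ihy) ihx
    | inv x hx ihx =>
      rw [show ⁅x⁻¹, v⁆ = x⁻¹ * ⁅x, v⁆⁻¹ * x⁻¹⁻¹ by simp only [commutatorElement_def]; group]
      exact hN _ (inv_mem hx) _ (inv_mem ihx)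
  have hgens : ∀ u ∈ K, ∀ g ∈ ({a, b} : Set G), ⁅g, u⁆ ∈ N := by
    intro u hu g hg
    rw [← commutatorElement_inv]
    refine inv_mem (key g (subset_closure hg) (fun g' hg' => ?_) u hu)
    rcases hg with rfl | rfl <;> rcases hg' with rfl | rfl
    · rw [commutatorElement_self]; exact one_mem _
    · exact hbaN
    · rw [← commutatorElement_inv]; exact inv_mem hbaN
    · rw [commutatorElement_self]; exact one_mem _
  have hDN : D ≤ N := commutator_le.2 fun u hu v hv => key v hv (hgens v hv) u hu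
  rw [eq_bot_iff]
  refine (closure_le _).2 ?_
  rintro y ⟨x, hx, rfl⟩
  exact mem_bot.2 (hDN hx).2

/-- In a regular `p`-group `a^(p^k) = b^(p^k)` iff `(a b⁻¹)^(p^k) = 1`, on every subgroup. -/
theorem powEqOn_of_regular (hG : Cfsg.IsRegularPGroup p G) (k : ℕ) (H : Subgroup G) :
    PowEqOn (p ^ k) H := by
  induction hn : Nat.card H using Nat.strong_induction_on generalizing H with
  | _ n ih =>
  subst hn
  intro a ha b hb
  by_cases hab : Commute a b
  · rw [(hab.inv_right).mul_pow, inv_pow, mul_inv_eq_one]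
  constructor
  · intro h
    have hle : closure ({a, b} : Set G) ≤ H :=
      (closure_le _).2 (by rintro z (rfl | rfl) <;> assumption)
    have ih' : ∀ H' : Subgroup G, Nat.card H' < Nat.card (closure ({a, b} : Set G)) →
        PowEqOn (p ^ k) H' := fun H' h' => ih _ (h'.trans_le (card_le_of_le hle)) H' rfl
    have hcom : Commute (a ^ (p ^ k)) b := by rw [h]; exact (Commute.refl b).pow_left _
    have hbot := powerClosure_commutator_eq_bot hG.1 hab k ih'
      ((commute_pow_iff_of_powEqOn hG.1 hab _ ih').1 hcom)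
    obtain ⟨c, hc, he⟩ := hG.2 a b⁻¹ k
    have hcl : closure ({a, b⁻¹} : Set G) ≤ closure ({a, b} : Set G) := (closure_le _).2 (by
      rintro z (rfl | rfl)
      · exact subset_closure (Or.inl rfl)
      · exact inv_mem (subset_closure (Or.inr rfl)))
    have hc1 := H35.powerClosure_mono (commutator_mono hcl hcl) hc
    rw [hbot, mem_bot] at hc1
    rw [he, hc1, mul_one, inv_pow, h, mul_inv_cancel]
  · intro h
    set x := a * b⁻¹ with hx
    have hax : a = x * b := by rw [hx, inv_mul_cancel_right]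
    have hxb : ¬ Commute x b := fun hh => hab (hax ▸ hh.mul_left (Commute.refl b))
    have hle : closure ({x, b} : Set G) ≤ H :=
      (closure_le _).2 (by
        rintro z (rfl | rfl)
        · exact mul_mem ha (inv_mem hb)
        · exact hb)
    have ih' : ∀ H' : Subgroup G, Nat.card H' < Nat.card (closure ({x, b} : Set G)) →
        PowEqOn (p ^ k) H' := fun H' h' => ih _ (h'.trans_le (card_le_of_le hle)) H' rfl
    have hcom : Commute (x ^ (p ^ k)) b := by rw [h]; exact Commute.one_left b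
    have hbot := powerClosure_commutator_eq_bot hG.1 hxb k ih'
      ((commute_pow_iff_of_powEqOn hG.1 hxb _ ih').1 hcom)
    obtain ⟨c, hc, he⟩ := hG.2 x b k
    rw [hbot, mem_bot] at hc
    rw [hax, he, hc, h, one_mul, mul_one]

theorem pow_eq_pow_iff_of_regular (hG : Cfsg.IsRegularPGroup p G) (a b : G) (k : ℕ) :
    a ^ p ^ k = b ^ p ^ k ↔ (a * b⁻¹) ^ p ^ k = 1 :=
  powEqOn_of_regular hG k ⊤ a (mem_top a) b (mem_top b)

/-- `a^(p^k)` commutes with `b` iff the commutator of `a` and `b` is killed by `p^k`. -/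
theorem pow_commute_iff_of_regular (hG : Cfsg.IsRegularPGroup p G) (a b : G) (k : ℕ) :
    a ^ p ^ k * b = b * a ^ p ^ k ↔ (a⁻¹ * b⁻¹ * a * b) ^ p ^ k = 1 := by
  have h := pow_eq_pow_iff_of_regular hG (b⁻¹ * a * b) a k
  have h2 : (b⁻¹ * a * b) ^ p ^ k = b⁻¹ * a ^ p ^ k * b := by
    simpa using conj_pow (a := b⁻¹) (b := a) (i := p ^ k)
  rw [h2] at h
  have e1 : a⁻¹ * b⁻¹ * a * b = a⁻¹ * (b⁻¹ * a * b * a⁻¹) * a⁻¹⁻¹ := by group
  rw [e1, conj_pow, mul_inv_eq_one, mul_eq_left, ← h, mul_assoc, inv_mul_eq_iff_eq_mul]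

/-- The elements killed by `p^k` form a characteristic subgroup. -/
theorem exists_omega_of_regular (hG : Cfsg.IsRegularPGroup p G) (k : ℕ) :
    ∃ H : Subgroup G, H.Characteristic ∧ (H : Set G) = {x : G | x ^ p ^ k = 1} := by
  refine ⟨{ carrier := {x : G | x ^ p ^ k = 1}
            one_mem' := one_pow _
            mul_mem' := fun {x y} hx hy =>
              (powEqOn_of_regular hG k ⊤).mul_eq_one (mem_top x) (mem_top y) hx hy
            inv_mem' := fun {x} (hx : x ^ p ^ k = 1) =>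
              show x⁻¹ ^ p ^ k = 1 by rw [inv_pow, hx, inv_one] }, ?_, rfl⟩
  rw [characteristic_iff_comap_eq]
  intro e
  ext x
  show (e x) ^ p ^ k = 1 ↔ x ^ p ^ k = 1
  rw [← map_pow, map_eq_one_iff e e.injective]

end Cfsg.Agent.H89
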