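import Mathlib
import Cfsg.Prelude.Def_Transfer
import Cfsg.Prelude.Def_BaumannBlocks
import Cfsg.Agent.H22.Tate
import Cfsg.Agent.H22.PResidual
import Cfsg.Agent.H24.PGroupBasic
import Cfsg.Agent.H86.Basic

/-!
The theorem of Hall and Wielandt: a weakly closed subgroup `Q` of a Sylow subgroup `P` with
`[u, z; p - 1] = 1` for `u ∈ P`, `z ∈ Q` has a normalizer controlling the `p`-residual.
-/

set_option autoImplicit false

namespace Cfsg.Agent.H89

open Subgroup

universe u

section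
variable {G : Type*} [Group G] {H : Subgroup G} {C : Type*} [CommGroup C]

open scoped Classical in
/-- A homomorphism of `H` extended by `1` outside `H`. -/
noncomputable def extOne (ψ : H →* C) (g : G) : C := if h : g ∈ H then ψ ⟨g, h⟩ else 1

theorem extOne_of_mem (ψ : H →* C) {g : G} (h : g ∈ H) : extOne ψ g = ψ ⟨g, h⟩ := dif_pos h

theorem extOne_conj (ψ : H →* C) {h : G} (hh : h ∈ H) (g : G) :
    extOne ψ (h⁻¹ * g * h) = extOne ψ g := by
  by_cases hg : g ∈ H
  · rw [extOne_of_mem ψ (mul_mem (mul_mem (inv_mem hh) hg) hh), extOne_of_mem ψ hg,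
      show (⟨h⁻¹ * g * h, mul_mem (mul_mem (inv_mem hh) hg) hh⟩ : H) =
        ⟨h, hh⟩⁻¹ * ⟨g, hg⟩ * ⟨h, hh⟩ from Subtype.ext rfl, map_mul, map_mul, map_inv,
      mul_right_comm, inv_mul_cancel, one_mul]
  · rw [extOne, dif_neg, extOne, dif_neg hg]
    intro h'
    apply hg
    have := mul_mem (mul_mem hh h') (inv_mem hh)
    simpa [mul_assoc] using this

/-- Any representative of a coset gives the same value. -/
theorem extOne_out (ψ : H →* C) (w g : G) :
    extOne ψ ((g : G ⧸ H).out⁻¹ * w * (g : G ⧸ H).out) = extOne ψ (g⁻¹ * w * g) := by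
  obtain ⟨h, hh⟩ := QuotientGroup.mk_out_eq_mul H g
  rw [hh, ← extOne_conj ψ h.2 (g⁻¹ * w * g)]
  congr 1
  group

open scoped Classical in
/-- The transfer of a `p`-element, the proper orbits contributing nothing. -/
theorem transfer_eq_prod_fixed [Finite G] [Fintype (G ⧸ H)] {p : ℕ} (hp : p.Prime) (ψ : H →* C)
    (w : G) (hw : ∃ n, orderOf w = p ^ n)
    (hlong : ∀ (g : G) (k : ℕ), p ∣ k → extOne ψ (g⁻¹ * w ^ k * g) = 1) :
    MonoidHom.transfer ψ w =
      ∏ q ∈ Finset.univ.filter (fun q : G ⧸ H => w • q = q), extOne ψ (q.out⁻¹ * w * q.out) := by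
  haveI := Fintype.ofFinite (Quotient (MulAction.orbitRel (zpowers w) (G ⧸ H)))
  rw [MonoidHom.transfer_eq_prod_quotient_orbitRel_zpowers_quot ψ w]
  set π : G ⧸ H → Quotient (MulAction.orbitRel (zpowers w) (G ⧸ H)) := Quotient.mk''
  have hout : ∀ q : G ⧸ H, w • q = q → (π q).out = q := by
    intro q hq
    have h : (MulAction.orbitRel (zpowers w) (G ⧸ H)) (π q).out q := Quotient.mk_out q
    rw [MulAction.orbitRel_apply] at h
    obtain ⟨⟨v, hv⟩, hv'⟩ := h
    rw [← hv']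
    have : w ∈ MulAction.stabilizer G q := hq
    exact (zpowers_le.2 this) hv
  have hterm : ∀ o : Quotient (MulAction.orbitRel (zpowers w) (G ⧸ H)),
      w • o.out ≠ o.out → ψ ⟨o.out.out⁻¹ * w ^ Function.minimalPeriod (w • ·) o.out * o.out.out,
        QuotientGroup.out_conj_pow_minimalPeriod_mem H w o.out⟩ = 1 := by
    intro o ho
    obtain ⟨n, hn⟩ := hw
    have hdvd : Function.minimalPeriod (w • ·) o.out ∣ p ^ n := by
      refine Function.IsPeriodicPt.minimalPeriod_dvd ?_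
      show (w • ·)^[p ^ n] o.out = o.out
      simp [smul_iterate, ← hn, pow_orderOf_eq_one]
    obtain ⟨i, -, hi⟩ := (Nat.dvd_prime_pow hp).1 hdvd
    have hi0 : i ≠ 0 := fun h => ho (by
      rw [h, pow_zero] at hi
      exact Function.minimalPeriod_eq_one_iff_isFixedPt.1 hi)
    rw [← extOne_of_mem ψ]
    exact hlong _ _ (hi ▸ dvd_pow_self p hi0)
  rw [← Finset.prod_filter_of_ne (p := fun o => w • o.out = o.out)
    (fun o _ ho => not_not.1 fun h => ho (hterm o h))]
  refine (Finset.prod_bij (fun q _ => π q) (fun q hq => ?_) (fun q hq q' hq' h => ?_)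
    (fun o ho => ⟨o.out, ?_, Quotient.out_eq o⟩) (fun q hq => ?_)).symm
  · rw [Finset.mem_filter] at hq ⊢
    exact ⟨Finset.mem_univ _, by rw [hout q hq.2]; exact hq.2⟩
  · rw [← hout q (Finset.mem_filter.1 hq).2, ← hout q' (Finset.mem_filter.1 hq').2]
    exact congrArg Quotient.out h
  · exact Finset.mem_filter.2 ⟨Finset.mem_univ _, (Finset.mem_filter.1 ho).2⟩
  · have h1 : Function.minimalPeriod (w • ·) (π q).out = 1 :=
      Function.minimalPeriod_eq_one_iff_isFixedPt.2 (by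
        rw [hout q (Finset.mem_filter.1 hq).2]; exact (Finset.mem_filter.1 hq).2)
    rw [← extOne_of_mem ψ, h1, pow_one, hout q (Finset.mem_filter.1 hq).2]

end

theorem choose_pred_prime_cast {p : ℕ} [Fact p.Prime] :
    ∀ j < p, ((p - 1).choose j : ZMod p) = (-1) ^ j := by
  intro j
  induction j with
  | zero => intro _; simp
  | succ j ih =>
    intro hj
    have h := Nat.choose_succ_succ (p - 1) j
    rw [Nat.succ_eq_add_one, Nat.sub_add_cancel (Fact.out : p.Prime).one_le] at h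
    have h0 : ((p.choose (j + 1) : ℕ) : ZMod p) = 0 :=
      (CharP.cast_eq_zero_iff (ZMod p) p _).2
        ((Fact.out : p.Prime).dvd_choose_self (Nat.succ_ne_zero j) hj)
    rw [h, Nat.cast_add, ih (by omega)] at h0
    rw [eq_neg_of_add_eq_zero_right h0, pow_succ]
    ring

/-- If the `(p-1)`-st difference at `0` vanishes in a group of exponent `p`, so does the sum of
the first `p` values. -/
theorem sum_range_eq_zero_of_fwdDiff {A : Type*} [AddCommGroup A] {p : ℕ} [hp : Fact p.Prime]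
    (hA : ∀ a : A, (p : ℤ) • a = 0) (f : ℕ → A) (hf : (fwdDiff 1)^[p - 1] f 0 = 0) :
    ∑ i ∈ Finset.range p, f i = 0 := by
  rw [fwdDiff_iter_eq_sum_shift, Nat.sub_add_cancel hp.out.one_le] at hf
  rw [← hf]
  refine Finset.sum_congr rfl fun j hj => ?_
  rw [Finset.mem_range] at hj
  rw [zero_add, smul_eq_mul, mul_one]
  have hc : (((-1 : ℤ) ^ (p - 1 - j) * ((p - 1).choose j : ℤ) : ℤ) : ZMod p) = ((1 : ℤ) : ZMod p) := by
    push_cast
    rw [choose_pred_prime_cast j hj, ← pow_add, Nat.sub_add_cancel (by omega)]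
    exact ZMod.pow_card_sub_one_eq_one (neg_ne_zero.2 one_ne_zero)
  obtain ⟨t, ht⟩ := (ZMod.intCast_eq_intCast_iff_dvd_sub _ _ _).1 hc.symm
  rw [← sub_eq_zero]
  have : f j - ((-1 : ℤ) ^ (p - 1 - j) * ((p - 1).choose j : ℤ)) • f j =
      -(((-1 : ℤ) ^ (p - 1 - j) * ((p - 1).choose j : ℤ) - 1) • f j) := by
    rw [sub_smul, one_smul, neg_sub]
  rw [this, ht, mul_smul, hA, neg_zero]

variable {G : Type u} [Group G] [Finite G] {p : ℕ}

theorem normalizer_le_of_weaklyClosed {P Q : Subgroup G} (hQ : Cfsg.IsWeaklyClosed Q P) :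
    P ≤ normalizer (Q : Set G) := by
  intro g hg
  have hmap : Q.map (MulAut.conj g).toMonoidHom = Q := hQ.2 g (by
    rintro _ ⟨q, hq, rfl⟩
    exact mul_mem (mul_mem hg (hQ.1 hq)) (inv_mem hg))
  rw [mem_normalizer_iff]
  intro x
  conv_rhs => rw [← hmap]
  exact (mem_map_iff_mem (MulAut.conj g).injective).symm

/-- The fixed points of `x` in one orbit of `⟨x, Q⟩` contribute nothing to the transfer. -/
theorem prod_orbit_fixed_eq_one [hp : Fact p.Prime] {N L : Subgroup G} {C : Type*} [CommGroup C]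
    (hC : ∀ c : C, c ^ p = 1) (χ : N →* C) (hL : IsPGroup p L) {x : G} (hxL : x ∈ L)
    (Q : Subgroup G) (hQL : Q ≤ L) (hgen : L ≤ zpowers x ⊔ Q)
    (heng : ∀ z ∈ Q, (fun y : G => y⁻¹ * z⁻¹ * y * z)^[p - 1] x = 1)
    (hlong : ∀ (g : G) (k : ℕ), p ∣ k → extOne χ (g⁻¹ * x ^ k * g) = 1)
    [Fintype (G ⧸ N)] (q₀ : G ⧸ N) (hq₀ : x • q₀ = q₀) (hmove : ∃ z ∈ Q, z • q₀ ≠ q₀)
    (S : Finset (G ⧸ N)) (hS : ∀ r, r ∈ S ↔ x • r = r ∧ ∃ l ∈ L, l • q₀ = r) :
    ∏ r ∈ S, extOne χ (r.out⁻¹ * x * r.out) = 1 := by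
  classical
  set g := q₀.out with hgdef
  have hg : (g : G ⧸ N) = q₀ := QuotientGroup.out_eq' q₀
  have hsmul : ∀ (a : G), a • q₀ = ((a * g : G) : G ⧸ N) := fun a => by rw [← hg]; rfl
  have hfix : ∀ (a b : G), a • (b • q₀) = b • q₀ ↔ g⁻¹ * b⁻¹ * a * b * g ∈ N := by
    intro a b
    rw [← mul_smul, hsmul, hsmul, QuotientGroup.eq]
    rw [show (a * b * g)⁻¹ * (b * g) = (g⁻¹ * b⁻¹ * a * b * g)⁻¹ by group]
    exact inv_mem_iff
  -- the stabilizer and a maximal subgroup over it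
  set D : Subgroup L := (MulAction.stabilizer G q₀).subgroupOf L with hD
  have hDmem : ∀ d : L, d ∈ D ↔ g⁻¹ * (d : G) * g ∈ N := fun d => by
    rw [hD, mem_subgroupOf, MulAction.mem_stabilizer_iff]
    have := hfix d 1
    rw [one_smul, inv_one, mul_one, mul_one] at this
    exact this
  let ψ : D →* C := χ.comp
    { toFun := fun d => ⟨g⁻¹ * ((d : L) : G) * g, (hDmem d).1 d.2⟩
      map_one' := Subtype.ext (by simp)
      map_mul' := fun a b => Subtype.ext (by simp only [Subgroup.coe_mul]; group) }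
  have hxD : (⟨x, hxL⟩ : L) ∈ D := hq₀
  have hDtop : D ≠ ⊤ := fun h => by
    obtain ⟨z, hz, hzq⟩ := hmove
    exact hzq (show (⟨z, hQL hz⟩ : L) ∈ D from h ▸ mem_top _)
  obtain ⟨M, hM, hDM⟩ := (eq_top_or_exists_le_coatom D).resolve_left hDtop
  obtain ⟨hMn, hMi, -⟩ := H24.coatom_spec hL hM
  haveI := hMn
  obtain ⟨z, hzQ, hzM⟩ : ∃ z : L, (z : G) ∈ Q ∧ z ∉ M := by
    by_contra! h
    refine hM.1 (eq_top_iff.2 fun l _ => ?_)
    have hle : zpowers x ⊔ Q ≤ M.map L.subtype :=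
      sup_le (zpowers_le.2 ⟨⟨x, hxL⟩, hDM hxD, rfl⟩) fun q hq => ⟨⟨q, hQL hq⟩, h _ hq, rfl⟩
    obtain ⟨l', hl', e⟩ := hle (hgen l.2)
    rwa [← Subtype.ext (a1 := l') (a2 := l) e]
  have hoz : orderOf (z : L ⧸ M) = p :=
    orderOf_eq_prime (by
      rw [← QuotientGroup.mk_pow, QuotientGroup.eq_one_iff, ← hMi]; exact M.pow_index_mem z)
      (fun h => hzM ((QuotientGroup.eq_one_iff z).1 h))
  have hdec : ∀ l : L, ∃ i < p, (z ^ i)⁻¹ * l ∈ M := by
    intro l
    have htop : zpowers (z : L ⧸ M) = ⊤ := eq_top_of_card_eq _ (by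
      rw [Nat.card_zpowers, hoz, ← index_eq_card, hMi])
    have hmem : (l : L ⧸ M) ∈ Submonoid.powers (z : L ⧸ M) :=
      mem_powers_iff_mem_zpowers.2 (htop ▸ mem_top _)
    obtain ⟨n, hn⟩ := hmem
    refine ⟨n % p, Nat.mod_lt _ hp.out.pos, ?_⟩
    rw [← QuotientGroup.eq_one_iff, QuotientGroup.mk_mul, QuotientGroup.mk_inv,
      QuotientGroup.mk_pow, ← hoz, pow_mod_orderOf, inv_mul_eq_one]
    exact hn
  have huniq : ∀ i < p, ∀ j < p, (z ^ i)⁻¹ * z ^ j ∈ M → i = j := by
    intro i hi j hj h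
    rw [← QuotientGroup.eq_one_iff, QuotientGroup.mk_mul, QuotientGroup.mk_inv, inv_mul_eq_one,
      QuotientGroup.mk_pow, QuotientGroup.mk_pow, pow_eq_pow_iff_modEq, hoz] at h
    exact Nat.ModEq.eq_of_lt_of_lt h hi hj
  -- transfer from `M` to the stabilizer
  set D' : Subgroup M := D.subgroupOf M with hD'
  let ψ' : D' →* C := ψ.comp ((M.subtype.comp D'.subtype).codRestrict D (fun d => d.2))
  set T : M →* C := MonoidHom.transfer ψ'
  haveI := Fintype.ofFinite (M ⧸ D')
  have hval : ∀ w : M, extOne ψ' w = extOne χ (g⁻¹ * ((w : L) : G) * g) := by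
    intro w
    by_cases hw : w ∈ D'
    · rw [extOne_of_mem ψ' hw, extOne_of_mem χ ((hDmem w).1 hw)]
      rfl
    · rw [extOne, dif_neg hw, extOne, dif_neg fun h => hw ((hDmem w).2 h)]
  let x' : L := ⟨x, hxL⟩
  let w : ℕ → M := fun i => ⟨(z ^ i)⁻¹ * x' * z ^ i, by
    simpa using hMn.conj_mem x' (hDM hxD) (z ^ i)⁻¹⟩
  have hxp : ∃ n, orderOf x = p ^ n := by
    obtain ⟨n, hn⟩ := IsPGroup.iff_orderOf.1 hL x'
    exact ⟨n, by rwa [← Subgroup.orderOf_coe] at hn⟩
  have hT : ∀ i, T (w i) = ∏ s ∈ Finset.univ.filter (fun s : M ⧸ D' => w i • s = s),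
      extOne ψ' (s.out⁻¹ * w i * s.out) := by
    intro i
    refine transfer_eq_prod_fixed hp.out ψ' (w i) ?_ fun m k hk => ?_
    · obtain ⟨n, hn⟩ := hxp
      refine ⟨n, ?_⟩
      rw [← hn, ← Subgroup.orderOf_coe, ← Subgroup.orderOf_coe]
      show orderOf (((z : G) ^ i)⁻¹ * x * (z : G) ^ i) = orderOf x
      rw [← orderOf_injective (MulAut.conj ((z : G) ^ i)⁻¹).toMonoidHom
        (MulAut.conj ((z : G) ^ i)⁻¹).injective x]
      simp only [MulEquiv.coe_toMonoidHom, MulAut.conj_apply, inv_inv]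
    · rw [hval, ← hlong ((z : G) ^ i * ((m : L) : G) * g) k hk]
      congr 1
      have hwk : (((w i ^ k : M) : L) : G) = ((z : G) ^ i)⁻¹ * x ^ k * (z : G) ^ i := by
        push_cast
        simpa [w, x'] using conj_pow (a := ((z : G) ^ i)⁻¹) (b := x) (i := k)
      simp only [Subgroup.coe_mul, Subgroup.coe_inv, hwk]
      group
  -- the fixed points in the orbit
  have hcard : ∏ r ∈ S, extOne χ (r.out⁻¹ * x * r.out) = ∏ i ∈ Finset.range p, T (w i) := by
    rw [Finset.prod_congr rfl (fun i _ => hT i), Finset.prod_sigma']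
    refine (Finset.prod_bij (fun a _ => (((z ^ a.1 * (a.2.out : L) : L) : G)) • q₀) ?_ ?_ ?_ ?_).symm
    · rintro ⟨i, s⟩ ha
      simp only [Finset.mem_sigma, Finset.mem_filter, Finset.mem_univ, true_and] at ha
      refine (hS _).2 ⟨?_, _, SetLike.coe_mem _, rfl⟩
      have h := ha.2
      rw [← QuotientGroup.out_eq' s] at h
      have h' : (w i * s.out)⁻¹ * s.out ∈ D' := QuotientGroup.eq.1 h
      have h2 := inv_mem ((hDmem _).1 h')
      rw [hfix]
      convert h2 using 1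
      simp only [w, x', Subgroup.coe_subtype, smul_eq_mul, Subgroup.coe_mul, Subgroup.coe_inv, SubgroupClass.coe_pow]
      group
    · rintro ⟨i, s⟩ ha ⟨j, t⟩ hb h
      simp only [Finset.mem_sigma, Finset.mem_range] at ha hb
      have hmem : (z ^ i * (s.out : L))⁻¹ * (z ^ j * (t.out : L)) ∈ D := by
        rw [hD, mem_subgroupOf, MulAction.mem_stabilizer_iff, Subgroup.coe_mul, Subgroup.coe_inv,
          mul_smul, inv_smul_eq_iff]
        exact h.symm
      have hij : i = j := huniq i ha.1 j hb.1 (by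
        have h3 := mul_mem (mul_mem s.out.2 (hDM hmem)) (inv_mem t.out.2)
        simpa [mul_assoc] using h3)
      subst hij
      simp only [mul_inv_rev, mul_assoc, inv_mul_cancel_left] at hmem
      have : s = t := by
        rw [← QuotientGroup.out_eq' s, ← QuotientGroup.out_eq' t, QuotientGroup.eq]
        exact hmem
      rw [this]
    · intro r hr
      obtain ⟨hxr, l, hl, rfl⟩ := (hS r).1 hr
      obtain ⟨i, hi, hm⟩ := hdec ⟨l, hl⟩
      set m : M := ⟨_, hm⟩
      obtain ⟨d, hd⟩ := QuotientGroup.mk_out_eq_mul D' m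
      have hlm : ((z ^ i * ((m : M ⧸ D').out : L) : L) : G) • q₀ = l • q₀ := by
        rw [hd]
        simp only [m, Subgroup.coe_mul]
        simp only [Subgroup.coe_inv, SubgroupClass.coe_pow, mul_assoc, mul_inv_cancel_left]
        rw [mul_smul]
        congr 1
        exact d.2
      refine ⟨⟨i, (m : M ⧸ D')⟩, ?_, hlm⟩
      simp only [Finset.mem_sigma, Finset.mem_filter, Finset.mem_univ, true_and, Finset.mem_range]
      refine ⟨hi, ?_⟩
      rw [← QuotientGroup.out_eq' (m : M ⧸ D')]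
      refine QuotientGroup.eq.2 ?_
      have h2 := hxr
      rw [← hlm, hfix] at h2
      refine (hDmem _).2 ?_
      convert inv_mem h2 using 1
      simp only [w, x', Subgroup.coe_subtype, smul_eq_mul, Subgroup.coe_mul, Subgroup.coe_inv, SubgroupClass.coe_pow]
      group
    · rintro ⟨i, s⟩ ha
      rw [hsmul, extOne_out χ, hval]
      congr 1
      simp only [w, x', Subgroup.coe_mul, Subgroup.coe_inv, SubgroupClass.coe_pow]
      group
  rw [hcard]
  -- the sum vanishes by the Engel condition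
  let f : ℕ → Additive C := fun i => Additive.ofMul (T (w i))
  let c : G → G := fun y => y⁻¹ * (z : G)⁻¹ * y * (z : G)
  have hiter : ∀ k i, ∃ m : M, ((m : L) : G) = ((z : G) ^ i)⁻¹ * c^[k] x * (z : G) ^ i ∧
      Additive.ofMul (T m) = (fwdDiff 1)^[k] f i := by
    intro k
    induction k with
    | zero =>
      intro i
      exact ⟨w i, by simp [w, x'], rfl⟩
    | succ k ih =>
      intro i
      obtain ⟨m, hm, hm'⟩ := ih i
      obtain ⟨m₁, hm₁, hm₁'⟩ := ih (i + 1)
      refine ⟨m⁻¹ * m₁, ?_, ?_⟩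
      · simp only [Subgroup.coe_mul, Subgroup.coe_inv, hm, hm₁, Function.iterate_succ_apply', c,
          pow_succ']
        group
      · rw [map_mul, map_inv, ofMul_mul, ofMul_inv, hm', hm₁', Function.iterate_succ_apply',
          fwdDiff]
        abel
  have hsum : ∑ i ∈ Finset.range p, f i = 0 := by
    refine sum_range_eq_zero_of_fwdDiff (fun a => ?_) f ?_
    · rw [← ofMul_toMul a, ← ofMul_zpow, zpow_natCast, hC, ofMul_one]
    · obtain ⟨m, hm, hm'⟩ := hiter (p - 1) 0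
      rw [← hm']
      have : m = 1 := by
        apply Subtype.ext
        apply Subtype.ext
        rw [hm]
        show ((z : G) ^ 0)⁻¹ * c^[p - 1] x * (z : G) ^ 0 = 1
        rw [heng z hzQ]
        simp
      rw [this, map_one, ofMul_one]
  rw [← ofMul_eq_zero, ofMul_prod]
  exact hsum

/-- The transfer of `χ` agrees with `χ` on the Sylow subgroup. -/
theorem transfer_eq_of_engel [hp : Fact p.Prime] (P : Sylow p G) (Q : Subgroup G)
    (hQ : Cfsg.IsWeaklyClosed Q (P : Subgroup G))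
    (h : ∀ u ∈ (P : Subgroup G), ∀ z ∈ Q, (fun y : G => y⁻¹ * z⁻¹ * y * z)^[p - 1] u = 1)
    {C : Type*} [CommGroup C] (hC : ∀ c : C, c ^ p = 1)
    : ∀ (χ : normalizer (Q : Set G) →* C) (x : G), x ∈ (P : Subgroup G) →
      MonoidHom.transfer χ x = extOne χ x := by
  classical
  set N := normalizer (Q : Set G)
  intro χ
  have hPN : (P : Subgroup G) ≤ N := normalizer_le_of_weaklyClosed hQ
  haveI := Fintype.ofFinite (G ⧸ N)
  intro x
  induction hn : orderOf x using Nat.strong_induction_on generalizing x with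
  | _ n ih =>
  subst hn
  intro hx
  rcases eq_or_ne x 1 with rfl | hx1
  · rw [map_one, extOne_of_mem χ (one_mem _)]
    exact (map_one χ).symm
  have hxp : ∃ n, orderOf x = p ^ n := by
    obtain ⟨n, hn⟩ := IsPGroup.iff_orderOf.1 P.isPGroup' ⟨x, hx⟩
    exact ⟨n, by rwa [Subgroup.orderOf_mk] at hn⟩
  have hlong : ∀ (g : G) (k : ℕ), p ∣ k → extOne χ (g⁻¹ * x ^ k * g) = 1 := by
    intro g k hk
    by_cases hu : g⁻¹ * x ^ k * g ∈ N
    swap
    · rw [extOne, dif_neg hu]
    set u := g⁻¹ * x ^ k * g with hudef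
    have hord : orderOf u = orderOf (x ^ k) := by
      simpa [hudef] using orderOf_injective (MulAut.conj g⁻¹).toMonoidHom
        (MulAut.conj g⁻¹).injective (x ^ k)
    have hup : IsPGroup p (zpowers u) := by
      obtain ⟨n, hn⟩ := hxp
      obtain ⟨i, -, hi⟩ := (Nat.dvd_prime_pow hp.out).1
        ((hn ▸ orderOf_pow_dvd k : orderOf (x ^ k) ∣ p ^ n))
      exact IsPGroup.of_card (n := i) (by rw [Nat.card_zpowers, hord, hi])
    obtain ⟨R, hR⟩ := (IsPGroup.comap_of_injective hup N.subtype N.subtype_injective).exists_le_sylow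
    obtain ⟨m, hm⟩ := MulAction.exists_smul_eq N R (P.subtype hPN)
    have hmu : (m : G) * u * (m : G)⁻¹ ∈ (P : Subgroup G) := by
      have h1 : m * (⟨u, hu⟩ : N) * m⁻¹ ∈ ((m • R : Sylow p N) : Subgroup N) :=
        ⟨⟨u, hu⟩, hR (mem_zpowers u), rfl⟩
      rw [hm] at h1
      exact h1
    have hlt : orderOf ((m : G) * u * (m : G)⁻¹) < orderOf x := by
      rw [show orderOf ((m : G) * u * (m : G)⁻¹) = orderOf u from
        orderOf_injective (MulAut.conj (m : G)).toMonoidHom (MulAut.conj (m : G)).injective u, hord]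
      refine lt_of_le_of_ne (Nat.le_of_dvd (orderOf_pos x) (orderOf_pow_dvd k)) fun e => ?_
      obtain ⟨n, hn⟩ := hxp
      rw [orderOf_pow, hn] at e
      have h1 : p ^ n / (p ^ n).gcd k = p ^ n := e
      rcases Nat.div_eq_self.1 h1 with h2 | h2
      · exact (pow_pos hp.out.pos n).ne' h2
      · have hn0 : n ≠ 0 := fun h => hx1 (orderOf_eq_one_iff.1 (by rw [hn, h, pow_zero]))
        exact hp.out.ne_one (Nat.dvd_one.1 (h2 ▸ Nat.dvd_gcd (dvd_pow_self p hn0) hk))
    have hih := ih _ hlt _ rfl hmu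
    have he : extOne χ ((m : G) * u * (m : G)⁻¹) = extOne χ u := by
      have := extOne_conj χ (inv_mem m.2) u
      rwa [inv_inv] at this
    rw [← he, ← hih, map_mul, map_mul, map_inv, hudef, map_mul, map_mul, map_inv, map_pow]
    obtain ⟨t, rfl⟩ := hk
    rw [pow_mul, hC, one_pow]
    simp
  rw [transfer_eq_prod_fixed hp.out χ x hxp hlong]
  have hN0 : x • ((1 : G) : G ⧸ N) = ((1 : G) : G ⧸ N) := by
    show ((x * 1 : G) : G ⧸ N) = _
    rw [QuotientGroup.eq]
    simpa using hPN hx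
  rw [← Finset.mul_prod_erase (s := Finset.univ.filter (fun q : G ⧸ N => x • q = q))
    (f := fun q => extOne χ (q.out⁻¹ * x * q.out)) (a := ((1 : G) : G ⧸ N))
    (Finset.mem_filter.2 ⟨Finset.mem_univ _, hN0⟩)]
  rw [extOne_out χ x 1, inv_one, one_mul, mul_one]
  refine mul_eq_left.2 ?_
  set L := zpowers x ⊔ Q with hL
  have hLP : L ≤ (P : Subgroup G) := sup_le (zpowers_le.2 hx) hQ.1
  rw [← Finset.prod_fiberwise_of_maps_to (g := fun r : G ⧸ N => (MulAction.orbit L r))
    (fun r hr => Finset.mem_image_of_mem _ hr)]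
  refine Finset.prod_eq_one fun O hO => ?_
  obtain ⟨q₀, hq₀, rfl⟩ := Finset.mem_image.1 hO
  simp only [Finset.mem_erase, Finset.mem_filter, Finset.mem_univ, true_and] at hq₀
  refine prod_orbit_fixed_eq_one hC χ (P.isPGroup'.to_le hLP)
    (mem_sup_left (mem_zpowers x)) Q le_sup_right le_rfl (h x hx) hlong q₀ hq₀.2 ?_ _ fun r => ?_
  · by_contra! hh
    apply hq₀.1
    rw [← QuotientGroup.out_eq' q₀] at hh ⊢
    set g := q₀.out
    have hconj : Q.map (MulAut.conj g⁻¹).toMonoidHom ≤ N := by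
      rintro _ ⟨a, ha, rfl⟩
      have := QuotientGroup.eq.1 (show ((a * g : G) : G ⧸ N) = g from hh a ha)
      have h2 := inv_mem this
      simpa [mul_assoc] using h2
    have hQp : IsPGroup p (Q.map (MulAut.conj g⁻¹).toMonoidHom) :=
      (P.isPGroup'.to_le hQ.1).map _
    obtain ⟨R, hR⟩ :=
      (IsPGroup.comap_of_injective hQp N.subtype N.subtype_injective).exists_le_sylow
    obtain ⟨m, hm⟩ := MulAction.exists_smul_eq N R (P.subtype hPN)
    have hle : Q.map (MulAut.conj ((m : G) * g⁻¹)).toMonoidHom ≤ (P : Subgroup G) := by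
      rintro _ ⟨a, ha, rfl⟩
      have h0 : g⁻¹ * a * g ∈ N := hconj ⟨a, ha, by simp⟩
      have h1 : m * (⟨g⁻¹ * a * g, h0⟩ : N) * m⁻¹ ∈ ((m • R : Sylow p N) : Subgroup N) :=
        ⟨⟨_, h0⟩, hR ⟨a, ha, by simp⟩, rfl⟩
      rw [hm] at h1
      have h1' : (m : G) * (g⁻¹ * a * g) * (m : G)⁻¹ ∈ (P : Subgroup G) := h1
      simpa [mul_assoc] using h1'
    have hmg : (m : G) * g⁻¹ ∈ N := by
      rw [mem_normalizer_iff]
      intro y
      conv_rhs => rw [← hQ.2 _ hle]
      exact (mem_map_iff_mem (MulAut.conj ((m : G) * g⁻¹)).injective).symm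
    rw [QuotientGroup.eq, mul_one]
    exact (N.mul_mem_cancel_left m.2).1 hmg
  · simp only [Finset.mem_filter, Finset.mem_erase, Finset.mem_univ, true_and]
    constructor
    · rintro ⟨⟨-, hr⟩, ho⟩
      refine ⟨hr, ?_⟩
      have : r ∈ MulAction.orbit L q₀ := ho ▸ MulAction.mem_orbit_self r
      obtain ⟨⟨l, hl⟩, hl'⟩ := this
      exact ⟨l, hl, hl'⟩
    · rintro ⟨hr, l, hl, rfl⟩
      refine ⟨⟨fun e => hq₀.1 ?_, hr⟩, MulAction.orbit_eq_iff.2 ⟨⟨l, hl⟩, rfl⟩⟩
      rw [eq_comm, ← inv_smul_eq_iff] at e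
      rw [← e]
      show ((l⁻¹ * 1 : G) : G ⧸ N) = _
      rw [QuotientGroup.eq]
      simpa using hPN (hLP hl)

/-- **Hall–Wielandt**. -/
theorem pResidualOf_normalizer_eq [hp : Fact p.Prime] (P : Sylow p G) (Q : Subgroup G)
    (hQ : Cfsg.IsWeaklyClosed Q (P : Subgroup G))
    (h : ∀ u ∈ (P : Subgroup G), ∀ z ∈ Q, (fun y : G => y⁻¹ * z⁻¹ * y * z)^[p - 1] u = 1) :
    Cfsg.pResidualOf p (normalizer (Q : Set G)) =
      Cfsg.pResidual p G ⊓ normalizer (Q : Set G) := by
  classical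
  set N := normalizer (Q : Set G)
  have hPN : (P : Subgroup G) ≤ N := normalizer_le_of_weaklyClosed hQ
  refine le_antisymm (H22.map_subtype_pResidual_le N) ?_
  have ht : (P : Subgroup G) ⊓ Cfsg.pResidual p G ≤ (Cfsg.pResidual p N).map N.subtype := by
    refine H22.tate P N hPN fun M hMn hMi => ?_
    haveI := hMn
    have hcard : Nat.card (N ⧸ M) = p := by rw [← index_eq_card, hMi]
    haveI : IsCyclic (N ⧸ M) := isCyclic_of_prime_card hcard
    letI : CommGroup (N ⧸ M) := IsCyclic.commGroup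
    rintro x ⟨hxP, hxG⟩
    have hV := transfer_eq_of_engel P Q hQ h
      (fun c : N ⧸ M => by rw [← hcard]; exact pow_card_eq_one') (QuotientGroup.mk' M) x hxP
    rw [extOne_of_mem _ (hPN hxP),
      MonoidHom.mem_ker.1 (Abelianization.commutator_subset_ker _ hxG)] at hV
    exact ⟨⟨x, hPN hxP⟩, (QuotientGroup.eq_one_iff _).1 hV.symm, rfl⟩
  rintro x ⟨hxK, hxN⟩
  obtain ⟨y, w, hy, hw, hyw, ⟨k, hk⟩, hwp⟩ :=
    H86.exists_pPart_mul_pPrimePart (⟨x, hxN⟩ : N) (isOfFinOrder_of_finite _) hp.out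
  refine ⟨⟨x, hxN⟩, ?_, rfl⟩
  rw [← hyw]
  refine mul_mem ?_ (H22.mem_pResidual_of_coprime hwp)
  have hyK : (y : G) ∈ Cfsg.pResidual p G := by
    obtain ⟨i, rfl⟩ := mem_zpowers_iff.1 hy
    rw [Subgroup.coe_zpow]
    exact (Cfsg.pResidual p G).zpow_mem hxK i
  obtain ⟨R, hR⟩ := (IsPGroup.of_card (n := k) (by rw [Nat.card_zpowers, hk]) :
    IsPGroup p (zpowers y)).exists_le_sylow
  obtain ⟨m, hm⟩ := MulAction.exists_smul_eq N R (P.subtype hPN)
  have h1 : m * y * m⁻¹ ∈ ((m • R : Sylow p N) : Subgroup N) := ⟨y, hR (mem_zpowers y), rfl⟩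
  rw [hm] at h1
  obtain ⟨v, hv, hve⟩ := ht ⟨h1, by
    simpa using (H22.pResidual_normal (G := G) (p := p)).conj_mem _ hyK m⟩
  have : v = m * y * m⁻¹ := Subtype.ext hve
  rw [this] at hv
  have := (H22.pResidual_normal (G := N) (p := p)).conj_mem _ hv m⁻¹
  simpa [mul_assoc] using this

/-- The special case of class less than `p`. -/
theorem pResidualOf_sylow_normalizer_eq [hp : Fact p.Prime] (P : Sylow p G)
    (hcl : (P : Subgroup G).lowerCentralSeries (p - 1) = ⊥) :
    Cfsg.pResidualOf p (normalizer ((P : Subgroup G) : Set G)) =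
      Cfsg.pResidual p G ⊓ normalizer ((P : Subgroup G) : Set G) := by
  refine pResidualOf_normalizer_eq P P ⟨le_rfl, fun g hg => ?_⟩ fun u hu z hz => ?_
  · exact eq_of_le_of_card_ge hg (card_map_of_injective (MulAut.conj g).injective).ge
  · have hiter : ∀ k, (fun y : G => y⁻¹ * z⁻¹ * y * z)^[k] u ∈
        (P : Subgroup G).lowerCentralSeries k := by
      intro k
      induction k with
      | zero => exact hu
      | succ k ih =>
        rw [Function.iterate_succ_apply', Subgroup.lowerCentralSeries_succ]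
        have := commutator_mem_commutator (inv_mem ih) (inv_mem hz)
        rw [commutatorElement_def, inv_inv, inv_inv] at this
        exact this
    exact mem_bot.1 (hcl ▸ hiter (p - 1))

end Cfsg.Agent.H89
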