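import Mathlib
import Cfsg.Agent.H19.Frattini

/-!
P. Hall's bound for the order of the automorphism group of a finite `p`-group.
-/

set_option autoImplicit false

namespace Cfsg.Agent.H89

open Subgroup

/-- For `r = dim V`, an `r`-tuple generates the elementary abelian group `V` iff it is independent. -/
theorem closure_eq_top_iff_linearIndependent {V : Type*} [CommGroup V] [Finite V] {p r : ℕ}
    [Fact p.Prime] [Module (ZMod p) (Additive V)]
    (hr : Module.finrank (ZMod p) (Additive V) = r) (g : Fin r → V) :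
    closure (Set.range g) = ⊤ ↔ LinearIndependent (ZMod p) (Additive.ofMul ∘ g) := by
  constructor
  · intro h
    refine linearIndependent_of_top_le_span_of_card_eq_finrank (fun v _ => ?_) (by simp [hr])
    set S := Submodule.span (ZMod p) (Set.range (Additive.ofMul ∘ g))
    have hle : closure (Set.range g) ≤ AddSubgroup.toSubgroup' S.toAddSubgroup :=
      (closure_le _).2 (by
        rintro _ ⟨i, rfl⟩
        show Additive.ofMul (g i) ∈ S
        exact Submodule.subset_span ⟨i, rfl⟩)
    exact hle (h ▸ mem_top (Additive.toMul v))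
  · intro h
    have hspan := h.span_eq_top_of_card_eq_finrank' (by simp [hr])
    rw [eq_top_iff]
    intro v _
    have hle : Submodule.span (ZMod p) (Set.range (Additive.ofMul ∘ g)) ≤
        AddSubgroup.toZModSubmodule p (closure (Set.range g)).toAddSubgroup :=
      Submodule.span_le.2 (by
        rintro _ ⟨i, rfl⟩
        show g i ∈ Subgroup.closure (Set.range g)
        exact Subgroup.subset_closure ⟨i, rfl⟩)
    exact hle (hspan ▸ Submodule.mem_top : Additive.ofMul v ∈ _)

/-- `|Aut P|` divides the number of generating `r`-tuples, `(p^(n-r))^r · |GL_r(p)|`. -/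
theorem card_mulAut_dvd {P : Type*} [Group P] [Finite P] {p n r : ℕ} [hp : Fact p.Prime]
    (hP : Nat.card P = p ^ n) (hr : (frattini P).index = p ^ r) :
    Nat.card (MulAut P) ∣ p ^ (r * (n - r)) * ∏ i ∈ Finset.range r, (p ^ r - p ^ i) := by
  classical
  have hPp : IsPGroup p P := IsPGroup.of_card hP
  obtain ⟨hcomm, hpow⟩ := H19.commutator_pow_mem_frattini hPp
  set Φ := frattini P with hΦ
  haveI : IsMulCommutative (P ⧸ Φ) :=
    (Subgroup.Normal.quotient_commutative_iff_commutator_le).2 hcomm
  letI : CommGroup (P ⧸ Φ) :=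
    { (inferInstance : Group (P ⧸ Φ)) with
      mul_comm := fun u w => IsMulCommutative.is_comm.comm u w }
  letI : Module (ZMod p) (Additive (P ⧸ Φ)) := AddCommGroup.zmodModule fun v => by
    obtain ⟨x, hx⟩ := QuotientGroup.mk'_surjective Φ (Additive.toMul v)
    rw [← ofMul_toMul v, ← ofMul_pow, ← hx, ← map_pow, QuotientGroup.mk'_apply,
      (QuotientGroup.eq_one_iff _).2 (hpow x)]
    rfl
  haveI : Fintype (Additive (P ⧸ Φ)) := Fintype.ofFinite _
  have hcV : Nat.card (Additive (P ⧸ Φ)) = p ^ r := by
    rw [Nat.card_congr Additive.toMul, ← index_eq_card, hr]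
  haveI : Module.Finite (ZMod p) (Additive (P ⧸ Φ)) := Module.Finite.of_finite
  have hrank : Module.finrank (ZMod p) (Additive (P ⧸ Φ)) = r := by
    have h : Nat.card (Additive (P ⧸ Φ)) =
        Nat.card (ZMod p) ^ Module.finrank (ZMod p) (Additive (P ⧸ Φ)) :=
      @Module.natCard_eq_pow_finrank (ZMod p) (Additive (P ⧸ Φ)) _ _ _ ‹Module.Finite (ZMod p) (Additive (P ⧸ Φ))›
    rw [hcV, Nat.card_zmod] at h
    exact (Nat.pow_right_injective hp.out.two_le h).symm
  have hgen : ∀ f : Fin r → P, closure (Set.range f) = ⊤ ↔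
      LinearIndependent (ZMod p) (Additive.ofMul ∘ (QuotientGroup.mk' Φ ∘ f)) := by
    intro f
    rw [← closure_eq_top_iff_linearIndependent hrank, Set.range_comp, ← MonoidHom.map_closure]
    constructor
    · intro h
      rw [h, map_top_of_surjective _ (QuotientGroup.mk'_surjective Φ)]
    · intro h
      apply frattini_nongenerating
      have := congrArg (comap (QuotientGroup.mk' Φ)) h
      rwa [comap_map_eq, QuotientGroup.ker_mk', comap_top] at this
  let X := {f : Fin r → P // closure (Set.range f) = ⊤}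
  letI : MulAction (MulAut P) X :=
    { smul := fun e f => ⟨fun i => e (f.1 i), by
        have := congrArg (map e.toMonoidHom) f.2
        rw [MonoidHom.map_closure, map_top_of_surjective _ e.surjective, ← Set.range_comp] at this
        exact this⟩
      one_smul := fun f => rfl
      mul_smul := fun a b f => rfl }
  have hfree : ∀ f : X, MulAction.stabilizer (MulAut P) f = ⊥ := by
    intro f
    rw [eq_bot_iff]
    intro e he
    have hfix : ∀ i, e (f.1 i) = f.1 i := fun i => congrFun (congrArg Subtype.val he) i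
    have heq : e.toMonoidHom = MonoidHom.id P :=
      MonoidHom.eq_of_eqOn_dense f.2 (by rintro _ ⟨i, rfl⟩; exact hfix i)
    exact MulEquiv.ext fun x => DFunLike.congr_fun heq x
  have hdvd : Nat.card (MulAut P) ∣ Nat.card X := by
    rw [Nat.card_congr (MulAction.selfEquivSigmaOrbits (MulAut P) X)]
    haveI := Fintype.ofFinite (Quotient (MulAction.orbitRel (MulAut P) X))
    rw [Nat.card_sigma]
    refine Finset.dvd_sum fun ω _ => dvd_of_eq ?_
    rw [Nat.card_coe_set_eq, ← MulAction.index_stabilizer, hfree, index_bot]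
  have hrn : r ≤ n := (Nat.pow_le_pow_iff_right hp.out.one_lt).1
    (Nat.le_of_dvd (pow_pos hp.out.pos _) (hP ▸ hr ▸ index_dvd_card Φ))
  have hcΦ : Nat.card Φ = p ^ (n - r) := by
    have := card_mul_index Φ
    rw [hr, hP, ← Nat.sub_add_cancel hrn, pow_add] at this
    exact Nat.eq_of_mul_eq_mul_right (pow_pos hp.out.pos _) this
  let good := fun g : Fin r → Additive (P ⧸ Φ) => LinearIndependent (ZMod p) g
  have hX : Nat.card X =
      Nat.card {g : Fin r → Additive (P ⧸ Φ) // good g} * (p ^ (n - r)) ^ r := by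
    let e : (Fin r → P) ≃ (Fin r → Additive (P ⧸ Φ)) × (Fin r → ↥Φ) :=
      (Equiv.arrowCongr (Equiv.refl _) ((Subgroup.groupEquivQuotientProdSubgroup (s := Φ)).trans
        (Equiv.prodCongr Additive.ofMul (Equiv.refl _)))).trans
        (Equiv.arrowProdEquivProdArrow _ (fun _ => Additive (P ⧸ Φ)) (fun _ => ↥Φ))
    have he : ∀ f, (e f).1 = Additive.ofMul ∘ (QuotientGroup.mk' Φ ∘ f) := fun f => rfl
    rw [show p ^ (n - r) = Nat.card ↥Φ from hcΦ.symm,
      show Nat.card ↥Φ ^ r = Nat.card (Fin r → ↥Φ) by rw [Nat.card_fun, Nat.card_fin], ← Nat.card_prod]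
    refine Nat.card_congr ((Equiv.subtypeEquiv e fun f => ?_).trans
      (Equiv.prodSubtypeFstEquivSubtypeProd (p := good)))
    rw [hgen, ← he]
  have hind : Nat.card {g : Fin r → Additive (P ⧸ Φ) // good g} =
      ∏ i ∈ Finset.range r, (p ^ r - p ^ i) := by
    rw [card_linearIndependent (K := ZMod p) (le_of_eq hrank.symm)]
    simp only [hrank, ZMod.card]
    exact Fin.prod_univ_eq_prod_range (fun i => p ^ r - p ^ i) r
  rw [hX, hind, ← pow_mul, Nat.mul_comm (n - r) r, Nat.mul_comm _ (p ^ _)] at hdvd
  exact hdvd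

end Cfsg.Agent.H89
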