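import Mathlib
import Cfsg.Agent.H25.Burnside
import Cfsg.Agent.H89.IndexPowers

/-!
# Subgroups of prime power index forcing solvability

By Burnside's lemma on classes of prime power size, a finite group with an abelian subgroup of
prime power index is solvable, and so is one with a subgroup of prime power index which is
cyclic-by-(cyclic 2-group).
-/

namespace Cfsg.Agent.H89

open Subgroup

universe u

/-- A simple group with a nontrivial element whose centralizer has prime power index is solvable. -/
theorem isSolvable_of_isSimple_of_centralizer_index {G : Type u} [Group G] [Finite G]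
    [IsSimpleGroup G] {p s : ℕ} (hp : p.Prime) {g : G} (hg : g ≠ 1) {A : Subgroup G}
    (hA : A ≤ centralizer ({g} : Set G)) (hs : A.index ∣ p ^ s) : Group.IsSolvable G := by
  obtain ⟨k, -, hk⟩ := (Nat.dvd_prime_pow hp).mp ((index_dvd_of_le hA).trans hs)
  have hpr := H25.prime_card_of_simple_of_primePow_class hp hg hk
  haveI : Fact (Nat.card G).Prime := ⟨hpr⟩
  haveI := isCyclic_of_prime_card (α := G) rfl
  exact Group.isSolvable_of_comm fun a b => mul_comm' a b

/-- Splitting at a proper nontrivial normal subgroup. -/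
theorem isSolvable_split {G : Type u} [Group G] (N : Subgroup G) [N.Normal]
    (h1 : Group.IsSolvable N) (h2 : Group.IsSolvable (G ⧸ N)) : Group.IsSolvable G :=
  (Group.isSolvable_iff_subgroup_quotient N).mpr ⟨h1, h2⟩

/-- Orders of the pieces of a proper nontrivial normal subgroup. -/
theorem card_lt_of_normal {G : Type u} [Group G] [Finite G] {N : Subgroup G} [N.Normal]
    (hb : N ≠ ⊥) (ht : N ≠ ⊤) : Nat.card N < Nat.card G ∧ Nat.card (G ⧸ N) < Nat.card G := by
  have h1 : 1 < Nat.card N := (one_lt_card_iff_ne_bot N).mpr hb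
  have h2 := card_eq_card_quotient_mul_card_subgroup N
  have h3 : 1 < Nat.card (G ⧸ N) := by
    rw [← index_eq_card]
    exact one_lt_index_of_ne_top ht
  constructor <;> nlinarith

/-- Either simple (or trivial), or there is a proper nontrivial normal subgroup. -/
theorem simple_or_split (G : Type u) [Group G] :
    Subsingleton G ∨ IsSimpleGroup G ∨ ∃ N : Subgroup G, N.Normal ∧ N ≠ ⊥ ∧ N ≠ ⊤ := by
  by_cases hs : Subsingleton G
  · exact Or.inl hs
  haveI := not_subsingleton_iff_nontrivial.mp hs
  by_cases h : ∃ N : Subgroup G, N.Normal ∧ N ≠ ⊥ ∧ N ≠ ⊤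
  · exact Or.inr (Or.inr h)
  · push Not at h
    exact Or.inr (Or.inl ⟨fun H hH => (eq_or_ne H ⊥).imp_right fun hne => h H hH hne⟩)

theorem isSolvable_of_abelian_primePowIndex_aux (p s : ℕ) (hp : p.Prime) (n : ℕ) :
    ∀ (G : Type u) [Group G] [Finite G], Nat.card G ≤ n → ∀ A : Subgroup G,
      IsMulCommutative A → A.index ∣ p ^ s → Group.IsSolvable G := by
  induction n with
  | zero =>
    intro G _ _ hn
    exact absurd (Nat.le_zero.mp hn) Nat.card_pos.ne'
  | succ n ih =>
    intro G _ _ hn A hA hs
    haveI : Fact p.Prime := ⟨hp⟩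
    rcases simple_or_split G with hG | hG | ⟨N, hN, hb, ht⟩
    · infer_instance
    · rcases eq_or_ne A ⊥ with rfl | hne
      · rw [index_bot] at hs
        obtain ⟨k, -, hk⟩ := (Nat.dvd_prime_pow hp).mp hs
        haveI := (IsPGroup.of_card (p := p) hk).isNilpotent
        infer_instance
      · obtain ⟨⟨a, ha⟩, hx⟩ := ne_bot_iff_exists_ne_one.mp hne
        have ha1 : a ≠ 1 := fun e => hx (Subtype.ext e)
        exact isSolvable_of_isSimple_of_centralizer_index hp ha1 (fun b hb =>
          mem_centralizer_singleton_iff.mpr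
            (congrArg Subtype.val (mul_comm' (⟨b, hb⟩ : A) ⟨a, ha⟩))) hs
    · obtain ⟨h1, h2⟩ := card_lt_of_normal hb ht
      refine isSolvable_split N (ih N (by omega) (A.subgroupOf N) ?_ ?_)
        (ih (G ⧸ N) (by omega) (A.map (QuotientGroup.mk' N)) ?_ ?_)
      · exact ⟨⟨fun a b => Subtype.ext (Subtype.ext (congrArg Subtype.val
          (mul_comm' (⟨_, a.2⟩ : A) ⟨_, b.2⟩) :))⟩⟩
      · exact (relIndex_dvd_index_left (H := A) N).trans hs
      · refine ⟨⟨?_⟩⟩
        rintro ⟨_, a, ha, rfl⟩ ⟨_, b, hb, rfl⟩
        refine Subtype.ext ?_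
        simp only [coe_mul, ← map_mul]
        exact congrArg _ (congrArg Subtype.val (mul_comm' (⟨a, ha⟩ : A) ⟨b, hb⟩))
      · exact (A.index_map_dvd (QuotientGroup.mk'_surjective N)).trans hs

/-- A finite group with an abelian subgroup of prime power index is solvable. -/
theorem isSolvable_of_abelian_primePowIndex {G : Type u} [Group G] [Finite G] {p s : ℕ}
    (hp : p.Prime) (A : Subgroup G) (hA : IsMulCommutative A) (hs : A.index ∣ p ^ s) :
    Group.IsSolvable G :=
  isSolvable_of_abelian_primePowIndex_aux p s hp _ G le_rfl A hA hs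

/-- The hypothesis: a subgroup of index dividing `p ^ s` which is cyclic by a cyclic 2-group. -/
def HasCyclicByTwoPower (p s : ℕ) (G : Type u) [Group G] : Prop :=
  ∃ (A : Subgroup G) (B : Subgroup A) (_ : B.Normal), A.index ∣ p ^ s ∧ IsCyclic B ∧
    IsCyclic (A ⧸ B) ∧ ∃ r : ℕ, Nat.card (A ⧸ B) = 2 ^ r

theorem hasCyclicByTwoPower_subgroup {G : Type u} [Group G] [Finite G] {p s : ℕ} (N : Subgroup G)
    [N.Normal] (h : HasCyclicByTwoPower p s G) : HasCyclicByTwoPower p s N := by
  obtain ⟨A, B, hB, hs, hBc, hQc, r, hr⟩ := h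
  let A' : Subgroup N := A.subgroupOf N
  let φ : A' →* A := (N.subtype.comp A'.subtype).codRestrict A fun a => a.2
  have hφ : Function.Injective φ := fun a b e => Subtype.ext (Subtype.ext (congrArg Subtype.val e :))
  haveI := hBc
  haveI := hQc
  let B' : Subgroup A' := B.comap φ
  refine ⟨A', B', inferInstance, (relIndex_dvd_index_left (H := A) N).trans hs, ?_, ?_⟩
  · exact isCyclic_of_injective ((φ.comp B'.subtype).codRestrict B fun b => b.2)
      fun a b e => Subtype.ext (hφ (congrArg Subtype.val e :))
  · let ψ : A' ⧸ B' →* A ⧸ B := QuotientGroup.map B' B φ le_rfl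
    have hψ : Function.Injective ψ := by
      rw [injective_iff_map_eq_one]
      intro q hq
      obtain ⟨a, rfl⟩ := QuotientGroup.mk'_surjective B' q
      rw [QuotientGroup.mk'_apply, QuotientGroup.eq_one_iff]
      exact (QuotientGroup.eq_one_iff (φ a)).mp hq
    refine ⟨isCyclic_of_injective ψ hψ, ?_⟩
    obtain ⟨r', -, hr'⟩ := (Nat.dvd_prime_pow Nat.prime_two).mp (hr ▸ card_dvd_of_injective ψ hψ)
    exact ⟨r', hr'⟩

theorem hasCyclicByTwoPower_quotient {G : Type u} [Group G] [Finite G] {p s : ℕ} (N : Subgroup G)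
    [N.Normal] (h : HasCyclicByTwoPower p s G) : HasCyclicByTwoPower p s (G ⧸ N) := by
  obtain ⟨A, B, hB, hs, hBc, hQc, r, hr⟩ := h
  let φ : A →* A.map (QuotientGroup.mk' N) := (QuotientGroup.mk' N).subgroupMap A
  have hφ : Function.Surjective φ := (QuotientGroup.mk' N).subgroupMap_surjective A
  haveI := hBc
  haveI := hQc
  haveI : (B.map φ).Normal := hB.map φ hφ
  refine ⟨A.map (QuotientGroup.mk' N), B.map φ, inferInstance,
    (A.index_map_dvd (QuotientGroup.mk'_surjective N)).trans hs, ?_, ?_⟩
  · exact isCyclic_of_surjective (φ.subgroupMap B) (φ.subgroupMap_surjective B)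
  · let ψ : A ⧸ B →* _ ⧸ B.map φ := QuotientGroup.map B (B.map φ) φ (le_comap_map _ _)
    have hψ : Function.Surjective ψ := by
      intro q
      obtain ⟨a', rfl⟩ := QuotientGroup.mk'_surjective (B.map φ) q
      obtain ⟨a, rfl⟩ := hφ a'
      exact ⟨(a : A ⧸ B), rfl⟩
    refine ⟨isCyclic_of_surjective ψ hψ, ?_⟩
    obtain ⟨r', -, hr'⟩ := (Nat.dvd_prime_pow Nat.prime_two).mp
      (hr ▸ card_dvd_of_surjective ψ hψ)
    exact ⟨r', hr'⟩

/-- The case of a cyclic normal part of odd order. -/
theorem isSolvable_of_odd_cyclic_part {G : Type u} [Group G] [Finite G] {p s : ℕ} (hp : p.Prime)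
    (hp2 : p ≠ 2) {A : Subgroup G} {B : Subgroup A} [B.Normal] (hs : A.index ∣ p ^ s)
    (hBc : IsCyclic B) (hQc : IsCyclic (A ⧸ B)) {r : ℕ} (hr : Nat.card (A ⧸ B) = 2 ^ r)
    (hodd : ¬ 2 ∣ Nat.card B) : Group.IsSolvable G := by
  haveI : Fact (Nat.Prime 2) := ⟨Nat.prime_two⟩
  haveI := hBc
  haveI := hQc
  set BG := B.map A.subtype with hBG
  have hBGc : IsMulCommutative BG := by
    haveI : IsCyclic BG := isCyclic_of_surjective
      (B.equivMapOfInjective A.subtype A.subtype_injective).toMonoidHom
      (B.equivMapOfInjective A.subtype A.subtype_injective).surjective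
    infer_instance
  have hcardB : Nat.card BG = Nat.card B := card_map_of_injective A.subtype_injective
  have hA : Nat.card A = 2 ^ r * Nat.card B := by rw [← hr, card_eq_card_quotient_mul_card_subgroup B]
  obtain ⟨u, -, hu⟩ := (Nat.dvd_prime_pow hp).mp hs
  have hG : Nat.card G = 2 ^ r * Nat.card B * p ^ u := by rw [← hA, ← hu, card_mul_index]
  rcases Nat.eq_zero_or_pos r with h0 | h0
  · refine isSolvable_of_abelian_primePowIndex hp BG hBGc (s := u) (dvd_of_eq ?_)
    have : Nat.card BG * BG.index = Nat.card B * p ^ u := by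
      rw [card_mul_index, hG, h0, pow_zero, one_mul]
    rw [hcardB] at this
    exact Nat.eq_of_mul_eq_mul_left Nat.card_pos this
  -- a cyclic Sylow 2-subgroup
  have hfac : (Nat.card G).factorization 2 = r := by
    rw [hG, mul_assoc, Nat.factorization_mul (pow_ne_zero _ two_ne_zero)
      (Nat.mul_ne_zero Nat.card_pos.ne' (pow_ne_zero _ hp.ne_zero)), Finsupp.add_apply,
      Nat.Prime.factorization_pow Nat.prime_two, Finsupp.single_eq_same,
      Nat.factorization_eq_zero_of_not_dvd, add_zero]
    exact fun hd => (Nat.prime_two.dvd_mul.mp hd).elim hodd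
      (fun h => hp2 ((Nat.prime_dvd_prime_iff_eq Nat.prime_two hp).mp (Nat.prime_two.dvd_of_dvd_pow h)).symm)
  obtain ⟨T⟩ := (inferInstance : Nonempty (Sylow 2 A))
  have hTcard : Nat.card (T : Subgroup A) = 2 ^ r := by
    rw [T.card_eq_multiplicity, hA, Nat.factorization_mul (pow_ne_zero _ two_ne_zero) Nat.card_pos.ne',
      Finsupp.add_apply, Nat.Prime.factorization_pow Nat.prime_two, Finsupp.single_eq_same,
      Nat.factorization_eq_zero_of_not_dvd hodd, add_zero]
  let f : (T : Subgroup A) →* A ⧸ B := (QuotientGroup.mk' B).comp (T : Subgroup A).subtype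
  have hf : Function.Injective f := by
    rw [injective_iff_map_eq_one]
    rintro ⟨t, ht⟩ h
    have htB : t ∈ B := (QuotientGroup.eq_one_iff t).mp h
    refine Subtype.ext (orderOf_eq_one_iff.mp (Nat.eq_one_of_dvd_coprimes ?_
      (orderOf_dvd_natCard (T : Subgroup A) ht) (orderOf_dvd_natCard B htB)))
    rw [hTcard]
    exact (Nat.prime_two.coprime_iff_not_dvd.mpr hodd).pow_left r
  haveI : IsCyclic (T : Subgroup A) := isCyclic_of_injective f hf
  let P : Sylow 2 G := Sylow.ofCard ((T : Subgroup A).map A.subtype)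
    (by rw [card_map_of_injective A.subtype_injective, hTcard, hfac])
  have hP : IsCyclic P := by
    show IsCyclic ((T : Subgroup A).map A.subtype)
    exact isCyclic_of_surjective
      ((T : Subgroup A).equivMapOfInjective A.subtype A.subtype_injective).toMonoidHom
      ((T : Subgroup A).equivMapOfInjective A.subtype A.subtype_injective).surjective
  have heven : 2 ∣ Nat.card G := hG ▸ (dvd_pow_self 2 h0.ne').trans ((dvd_mul_right _ _).trans (dvd_mul_right _ _))
  have hmin : (Nat.card G).minFac = 2 := (Nat.minFac_eq_two_iff _).mpr heven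
  have hK := IsCyclic.isComplement' hmin hP
  set K := (MonoidHom.transferSylow P (hP.normalizer_le_centralizer hmin)).ker
  have hKidx : K.index = 2 ^ r := by
    rw [hK.symm.index_eq_card, P.card_eq_multiplicity, hfac]
  have hKsol : Group.IsSolvable K := by
    have hBK : BG ≤ K := by
      rw [← relIndex_eq_one]
      refine Nat.eq_one_of_dvd_coprimes ?_ (relIndex_dvd_card K BG)
        (relIndex_dvd_index_of_normal K BG)
      rw [hKidx, hcardB]
      exact ((Nat.prime_two.coprime_iff_not_dvd.mpr hodd).pow_left r).symm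
    refine isSolvable_of_abelian_primePowIndex hp (BG.subgroupOf K) ?_ ?_ (s := u)
    · exact ⟨⟨fun a b => Subtype.ext (Subtype.ext (congrArg Subtype.val
        (mul_comm' (⟨_, a.2⟩ : BG) ⟨_, b.2⟩) :))⟩⟩
    · have h1 : Nat.card BG * BG.index = Nat.card G := card_mul_index BG
      rw [← relIndex_mul_index hBK, hKidx, hcardB, hG] at h1
      refine dvd_of_eq (Nat.eq_of_mul_eq_mul_left (n := 2 ^ r * Nat.card B) (Nat.mul_pos (pow_pos two_pos r) Nat.card_pos) ?_)
      rw [relIndex] at h1
      rw [← h1]; ring
  haveI : Group.IsNilpotent (G ⧸ K) := (IsPGroup.of_card (p := 2) (hKidx : Nat.card (G ⧸ K) = _)).isNilpotent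
  exact isSolvable_split K hKsol inferInstance

theorem isSolvable_of_cyclicByTwoPower_aux (p s : ℕ) (hp : p.Prime) (n : ℕ) :
    ∀ (G : Type u) [Group G] [Finite G], Nat.card G ≤ n → HasCyclicByTwoPower p s G →
      Group.IsSolvable G := by
  induction n with
  | zero =>
    intro G _ _ hn
    exact absurd (Nat.le_zero.mp hn) Nat.card_pos.ne'
  | succ n ih =>
    intro G _ _ hn h
    rcases simple_or_split G with hG | hG | ⟨N, hN, hb, ht⟩
    · infer_instance
    · obtain ⟨A, B, hB, hs, hBc, hQc, r, hr⟩ := h
      by_cases hp2 : p = 2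
      · subst hp2
        haveI := hBc
        haveI : IsCyclic (B.map A.subtype) := isCyclic_of_surjective
          (B.equivMapOfInjective A.subtype A.subtype_injective).toMonoidHom
          (B.equivMapOfInjective A.subtype A.subtype_injective).surjective
        refine isSolvable_of_abelian_primePowIndex hp (B.map A.subtype) inferInstance (s := r + s) ?_
        rw [pow_add, ← relIndex_mul_index (map_subtype_le B)]
        refine mul_dvd_mul (dvd_of_eq ?_) hs
        rw [relIndex, subgroupOf, comap_map_eq_self_of_injective A.subtype_injective, index_eq_card, hr]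
      by_cases hodd : 2 ∣ Nat.card B
      · obtain ⟨z, hz⟩ := exists_prime_orderOf_dvd_card' 2 hodd
        haveI := hBc
        have hz1 : z ≠ 1 := by
          rintro rfl
          simp at hz
        have huniq : ∀ y : B, orderOf y = 2 → y = z := by
          intro y hy
          classical
          haveI : Fintype B := Fintype.ofFinite _
          by_contra hne
          have hy1 : y ≠ 1 := by
            rintro rfl
            simp at hy
          have h3 : ({1, z, y} : Finset B).card ≤ 2 := by
            refine le_trans (Finset.card_le_card fun w hw => ?_)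
              (IsCyclic.card_pow_eq_one_le (α := B) two_pos)
            rw [Finset.mem_filter]
            refine ⟨Finset.mem_univ _, ?_⟩
            simp only [Finset.mem_insert, Finset.mem_singleton] at hw
            rcases hw with rfl | rfl | rfl
            · simp
            · rw [← hz, pow_orderOf_eq_one]
            · rw [← hy, pow_orderOf_eq_one]
          rw [Finset.card_insert_of_notMem (by simp [Ne.symm hz1, Ne.symm hy1]),
            Finset.card_insert_of_notMem (by simpa using Ne.symm hne), Finset.card_singleton] at h3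
          omega
        refine isSolvable_of_isSimple_of_centralizer_index hp (g := ((z : A) : G))
          (fun e => hz1 (Subtype.ext (Subtype.ext e))) (A := A) (fun a ha => ?_) hs
        rw [mem_centralizer_singleton_iff]
        have hc : (⟨a, ha⟩ : A) * z * (⟨a, ha⟩ : A)⁻¹ ∈ B := hB.conj_mem _ z.2 _
        have h2 : (⟨_, hc⟩ : B) = z := huniq _ (by
          rw [← hz, ← orderOf_coe, ← orderOf_coe z]
          exact (MulAut.conj (⟨a, ha⟩ : A)).orderOf_eq (z : A))
        have h3 := congrArg (fun w : B => ((w : A) : G)) h2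
        simp only [coe_mul, coe_inv] at h3
        exact mul_inv_eq_iff_eq_mul.mp h3
      · exact isSolvable_of_odd_cyclic_part hp hp2 hs hBc hQc hr hodd
    · obtain ⟨h1, h2⟩ := card_lt_of_normal hb ht
      exact isSolvable_split N (ih N (by omega) (hasCyclicByTwoPower_subgroup N h))
        (ih (G ⧸ N) (by omega) (hasCyclicByTwoPower_quotient N h))

end Cfsg.Agent.H89
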