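import Cfsg.Agent.H88.CentralParts
import Cfsg.Agent.H88.PiClassCount
import Cfsg.Agent.H89.PrimaryParts
import Cfsg.Agent.H89.ClassSizeCover

/-!
# Tools for centralizers of primary elements and their Sylow subgroups
-/

namespace Cfsg.Agent.H89

open Subgroup
open scoped Pointwise

variable {G : Type*} [Group G]

/-- The centralizer of an element. -/
abbrev cz (x : G) : Subgroup G := centralizer ({x} : Set G)

/-- `x` has `p`-power order. -/
def IsPEl (p : ℕ) (x : G) : Prop := ∃ k, orderOf x = p ^ k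

theorem mem_cz {a x : G} : a ∈ cz x ↔ a * x = x * a := mem_centralizer_singleton_iff

theorem self_mem_cz (x : G) : x ∈ cz x := mem_cz.mpr rfl

theorem mem_cz_comm {a x : G} : a ∈ cz x ↔ x ∈ cz a := by
  rw [mem_cz, mem_cz, eq_comm]

theorem center_le_cz (x : G) : center G ≤ cz x :=
  fun _ hz => mem_cz.mpr (mem_center_iff.mp hz x).symm

theorem cz_eq_top_iff {x : G} : cz x = ⊤ ↔ x ∈ center G :=
  ⟨fun h => mem_center_iff.mpr fun g => mem_cz.mp (h ▸ mem_top g),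
    fun h => eq_top_iff.mpr fun g _ => mem_cz.mpr (mem_center_iff.mp h g)⟩

theorem index_cz_eq_one_iff {x : G} : (cz x).index = 1 ↔ x ∈ center G :=
  index_eq_one.trans cz_eq_top_iff

theorem cz_mul_central {u z : G} (hz : z ∈ center G) : cz (u * z) = cz u :=
  H88.centralizer_mul_central hz

theorem smul_cz (c x : G) : MulAut.conj c • cz x = cz (c * x * c⁻¹) := by
  ext a
  rw [mem_pointwise_smul_iff_inv_smul_mem, MulAut.smul_def, MulAut.conj_inv_apply, mem_cz, mem_cz]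
  constructor
  · intro h
    calc a * (c * x * c⁻¹) = c * (c⁻¹ * a * c * x) * c⁻¹ := by group
      _ = c * (x * (c⁻¹ * a * c)) * c⁻¹ := by rw [h]
      _ = c * x * c⁻¹ * a := by group
  · intro h
    calc c⁻¹ * a * c * x = c⁻¹ * (a * (c * x * c⁻¹)) * c := by group
      _ = c⁻¹ * (c * x * c⁻¹ * a) * c := by rw [h]
      _ = x * (c⁻¹ * a * c) := by group

theorem conj_mem_cz_iff {c a x : G} : c * a * c⁻¹ ∈ cz (c * x * c⁻¹) ↔ a ∈ cz x := by
  rw [← smul_cz, ← MulAut.conj_apply, ← MulAut.smul_def, smul_mem_pointwise_smul_iff]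

theorem index_cz_conj (c x : G) : (cz (c * x * c⁻¹)).index = (cz x).index := by
  have h : cz x = (cz (c * x * c⁻¹)).comap (MulAut.conj c).toMonoidHom := by
    ext a
    exact conj_mem_cz_iff.symm
  rw [h, index_comap_of_surjective _ (MulAut.conj c).surjective]

theorem conj_notMem_center {c x : G} (hx : x ∉ center G) : c * x * c⁻¹ ∉ center G := fun h => hx (by
  have h1 := (inferInstance : (center G).Normal).conj_mem _ h c⁻¹
  simpa [mul_assoc] using h1)

theorem IsPEl.conj {p : ℕ} {x : G} (h : IsPEl p x) (c : G) : IsPEl p (c * x * c⁻¹) := by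
  rw [IsPEl, ← MulAut.conj_apply, MulEquiv.orderOf_eq]
  exact h

theorem IsPEl.of_mem {p : ℕ} [Fact p.Prime] {A : Subgroup G} (hA : IsPGroup p A) {x : G}
    (hx : x ∈ A) : IsPEl p x := by
  obtain ⟨k, hk⟩ := IsPGroup.iff_orderOf.mp hA ⟨x, hx⟩
  exact ⟨k, (orderOf_mk x hx).symm.trans hk⟩

theorem IsPEl.coprime {p : ℕ} (hp : p.Prime) {x : G} (h : IsPEl p x) {k : ℕ} (hk : ¬ p ∣ k) :
    (orderOf x).Coprime k := by
  obtain ⟨a, ha⟩ := h
  exact ha ▸ ((hp.coprime_iff_not_dvd.mpr hk).pow_left a)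

theorem IsPEl.coprime_pel {p r : ℕ} (hp : p.Prime) (hr : r.Prime) (hne : p ≠ r) {x y : G}
    (hx : IsPEl p x) (hy : IsPEl r y) : (orderOf x).Coprime (orderOf y) := by
  obtain ⟨a, ha⟩ := hx
  obtain ⟨b, hb⟩ := hy
  rw [ha, hb]
  exact ((Nat.coprime_primes hp hr).mpr hne).pow a b

theorem IsPEl.isPGroup_zpowers {p : ℕ} {x : G} (h : IsPEl p x) :
    IsPGroup p (zpowers x) := by
  obtain ⟨k, hk⟩ := h
  exact IsPGroup.of_card (n := k) (by rw [Nat.card_zpowers, hk])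

theorem cz_mul [Finite G] {u v : G} (h : v ∈ cz u) (hco : (orderOf u).Coprime (orderOf v)) :
    cz (u * v) = cz u ⊓ cz v :=
  H88.centralizer_mul_of_coprime (mem_cz.mp h).symm hco

theorem cz_le_cz_pow (g : G) (e : ℕ) : cz g ≤ cz (g ^ e) :=
  fun _ ha => mem_cz.mpr (Commute.pow_right (mem_cz.mp ha) e)

theorem exists_primary_noncentral [Finite G] {g : G} (hg : g ∉ center G) :
    ∃ (r : ℕ) (u : G), r.Prime ∧ IsPEl r u ∧ u ∉ center G ∧ u ∈ cz g ∧ cz g ≤ cz u := by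
  obtain ⟨r, hr, hrm⟩ := exists_primaryPart_notMem (center G) hg
  obtain ⟨a, -, ha⟩ := (Nat.dvd_prime_pow hr).mp (orderOf_primaryPart_dvd r g)
  exact ⟨r, _, hr, ⟨a, ha⟩, hrm, pow_mem (self_mem_cz g) _, cz_le_cz_pow g _⟩

/-- Splitting off the `p`-part. -/
theorem exists_split [Finite G] (p : ℕ) (hp : p.Prime) (g : G) :
    ∃ u v : ℕ, g ^ u * g ^ v = g ∧ IsPEl p (g ^ u) ∧ ¬ p ∣ orderOf (g ^ v) := by
  obtain ⟨u, v, h, hu, hv⟩ := H88.PiCount.exists_parts ({p} : Set ℕ) g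
  refine ⟨u, v, h, ?_, fun hd => hv p hp hd rfl⟩
  exact ⟨_, Nat.eq_prime_pow_of_unique_prime_dvd (orderOf_pos _).ne' fun {q} hq hqd => hu q hq hqd⟩

variable [Finite G]

theorem card_dvd_ordProj {p : ℕ} [hp : Fact p.Prime] {A H : Subgroup G} (hA : IsPGroup p A)
    (h : A ≤ H) : Nat.card A ∣ p ^ (Nat.card H).factorization p := by
  obtain ⟨k, hk⟩ := IsPGroup.iff_card.mp hA
  rw [hk]
  refine Nat.pow_dvd_pow p ((hp.out.pow_dvd_iff_le_factorization Nat.card_pos.ne').mp ?_)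
  exact hk ▸ card_dvd_of_le h

/-- A Sylow `p`-subgroup of `H`, as a subgroup of `G`. -/
def IsSylowIn (p : ℕ) (S H : Subgroup G) : Prop :=
  S ≤ H ∧ Nat.card S = p ^ (Nat.card H).factorization p

theorem IsSylowIn.isPGroup {p : ℕ} {S H : Subgroup G} (h : IsSylowIn p S H) : IsPGroup p S :=
  IsPGroup.of_card h.2

theorem IsSylowIn.eq_of_le {p : ℕ} [Fact p.Prime] {S H A : Subgroup G} (h : IsSylowIn p S H)
    (hA : IsPGroup p A) (hSA : S ≤ A) (hAH : A ≤ H) : S = A :=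
  Subgroup.eq_of_le_of_card_ge hSA
    (h.2.symm ▸ Nat.le_of_dvd (h.2 ▸ Nat.card_pos) (card_dvd_ordProj hA hAH))

theorem exists_isSylowIn {p : ℕ} [Fact p.Prime] {A H : Subgroup G} (hA : IsPGroup p A)
    (h : A ≤ H) : ∃ S, IsSylowIn p S H ∧ A ≤ S := by
  have hA' : IsPGroup p (A.subgroupOf H) := hA.of_equiv (subgroupOfEquivOfLe h).symm
  obtain ⟨P, hP⟩ := hA'.exists_le_sylow
  refine ⟨(P : Subgroup H).map H.subtype, ⟨map_subtype_le _, ?_⟩, fun x hx => ?_⟩
  · rw [card_map_of_injective H.subtype_injective, P.card_eq_multiplicity]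
  · exact ⟨⟨x, h hx⟩, hP hx, rfl⟩

theorem exists_isSylowIn_mem {p : ℕ} [Fact p.Prime] {H : Subgroup G} {x : G} (hx : IsPEl p x)
    (hxH : x ∈ H) : ∃ S, IsSylowIn p S H ∧ x ∈ S := by
  obtain ⟨S, hS, hle⟩ := exists_isSylowIn hx.isPGroup_zpowers (zpowers_le.mpr hxH)
  exact ⟨S, hS, hle (mem_zpowers x)⟩

/-- Sylow subgroups of `H` are conjugate in `H`. -/
theorem IsSylowIn.exists_conj {p : ℕ} [Fact p.Prime] {S T H : Subgroup G} (hS : IsSylowIn p S H)
    (hT : IsSylowIn p T H) : ∃ c ∈ H, MulAut.conj c • S = T := by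
  have hc : ∀ {U : Subgroup G}, IsSylowIn p U H →
      Nat.card (U.subgroupOf H) = p ^ (Nat.card H).factorization p := fun {U} hU => by
    rw [Nat.card_congr (subgroupOfEquivOfLe hU.1).toEquiv, hU.2]
  obtain ⟨c, hc'⟩ := MulAction.exists_smul_eq H (Sylow.ofCard _ (hc hS)) (Sylow.ofCard _ (hc hT))
  have h1 : MulAut.conj c • S.subgroupOf H = T.subgroupOf H := by
    have h2 := congrArg (fun P : Sylow p H => (P : Subgroup H)) hc'
    simpa only [Sylow.coe_subgroup_smul, Sylow.coe_ofCard] using h2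
  refine ⟨c, c.2, Subgroup.eq_of_le_of_card_ge ?_ (by rw [H20.card_conj_smul, hS.2, hT.2])⟩
  intro x hx
  rw [mem_pointwise_smul_iff_inv_smul_mem, MulAut.smul_def, MulAut.conj_inv_apply] at hx
  have hxH : x ∈ H := by
    have h3 := H.mul_mem (H.mul_mem c.2 (hS.1 hx)) (H.inv_mem c.2)
    simpa [mul_assoc] using h3
  have h4 : (⟨x, hxH⟩ : H) ∈ MulAut.conj c • S.subgroupOf H := by
    rw [mem_pointwise_smul_iff_inv_smul_mem, MulAut.smul_def, MulAut.conj_inv_apply]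
    exact hx
  rw [h1] at h4
  exact h4

/-- A `p`-element of `H` is conjugate in `H` into a given Sylow subgroup. -/
theorem IsSylowIn.exists_conj_mem {p : ℕ} [Fact p.Prime] {S H : Subgroup G} (hS : IsSylowIn p S H)
    {x : G} (hx : IsPEl p x) (hxH : x ∈ H) : ∃ c ∈ H, c * x * c⁻¹ ∈ S := by
  obtain ⟨T, hT, hxT⟩ := exists_isSylowIn_mem hx hxH
  obtain ⟨c, hc, rfl⟩ := hT.exists_conj hS
  exact ⟨c, hc, smul_mem_pointwise_smul x (MulAut.conj c) T hxT⟩

/-- A central `p`-element of `H` lies in each Sylow `p`-subgroup of `H`. -/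
theorem IsSylowIn.mem_of_commute {p : ℕ} [Fact p.Prime] {S H : Subgroup G} (hS : IsSylowIn p S H)
    {x : G} (hx : IsPEl p x) (hxH : x ∈ H) (hc : H ≤ cz x) : x ∈ S := by
  obtain ⟨c, hcH, hcS⟩ := hS.exists_conj_mem hx hxH
  rwa [mem_cz.mp (hc hcH), mul_inv_cancel_right] at hcS

end Cfsg.Agent.H89
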