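import Cfsg.Agent.H89.ClassSizeTools

/-!
# Class sizes `1`, `m`, `m n` with `m`, `n` coprime: basic facts
-/

namespace Cfsg.Agent.H89

open Subgroup
open scoped Pointwise

/-- The class sizes are `1`, `m` and `m n`, with `m`, `n` coprime. -/
structure OneMMn (G : Type*) [Group G] (m n : ℕ) : Prop where
  one_lt_m : 1 < m
  one_lt_n : 1 < n
  coprime : m.Coprime n
  sizes : ∀ x : G, (cz x).index = 1 ∨ (cz x).index = m ∨ (cz x).index = m * n
  exists_m : ∃ x : G, (cz x).index = m
  exists_mn : ∃ x : G, (cz x).index = m * n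

variable {G : Type*} [Group G] [Finite G]

theorem eq_of_le_of_index {A B : Subgroup G} (h : A ≤ B) (hi : A.index = B.index) : A = B := by
  refine Subgroup.eq_of_le_of_card_ge h (le_of_eq ?_)
  have h1 := A.card_mul_index
  rw [← B.card_mul_index, hi] at h1
  exact (Nat.eq_of_mul_eq_mul_right (Nat.pos_of_ne_zero index_ne_zero_of_finite) h1).symm

/-- A nonempty-support covering by conjugates of one centralizer is impossible. -/
theorem not_cover {u0 : G} (hu0 : u0 ∉ center G)
    (h : ∀ g : G, g ∉ center G → ∃ c : G, g ∈ cz (c * u0 * c⁻¹)) : False := by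
  refine hu0 (cz_eq_top_iff.mp (eq_top_of_conjCover fun g => ?_))
  by_cases hg : g ∈ center G
  · exact ⟨1, by rw [map_one, one_smul]; exact center_le_cz _ hg⟩
  · obtain ⟨c, hc⟩ := h g hg
    exact ⟨c, by rwa [smul_cz]⟩

/-- If every `r`-element is central then `r` divides no class size. -/
theorem not_dvd_index_cz {r : ℕ} [Fact r.Prime] (h : ∀ x : G, IsPEl r x → x ∈ center G) (g : G) :
    ¬ r ∣ (cz g).index := by
  obtain ⟨R⟩ := (inferInstance : Nonempty (Sylow r G))
  exact fun hd => R.not_dvd_index (hd.trans (index_dvd_of_le fun x hx =>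
    center_le_cz g (h x (IsPEl.of_mem R.isPGroup' hx))))

namespace OneMMn

variable {m n : ℕ} (h : OneMMn G m n)
include h

omit [Finite G] in
theorem cases_nc {x : G} (hx : x ∉ center G) : (cz x).index = m ∨ (cz x).index = m * n :=
  (h.sizes x).resolve_left (mt index_cz_eq_one_iff.mp hx)

omit [Finite G] in
theorem index_dvd (x : G) : (cz x).index ∣ m * n := by
  rcases h.sizes x with e | e | e <;> rw [e]
  · exact one_dvd _
  · exact dvd_mul_right _ _

omit [Finite G] in
theorem m_dvd {x : G} (hx : x ∉ center G) : m ∣ (cz x).index := by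
  rcases h.cases_nc hx with e | e <;> rw [e]
  exact dvd_mul_right _ _

omit [Finite G] in
theorem prime_dvd_cases {r : ℕ} (hr : r.Prime) {x : G} (hx : r ∣ (cz x).index) : r ∣ m ∨ r ∣ n :=
  hr.dvd_mul.mp (hx.trans (h.index_dvd x))

omit [Finite G] in
theorem not_dvd_n {p : ℕ} (hp : p.Prime) (hpm : p ∣ m) : ¬ p ∣ n := fun hpn =>
  hp.ne_one (Nat.dvd_one.mp (h.coprime ▸ Nat.dvd_gcd hpm hpn))

omit [Finite G] in
theorem m_ne_mn : m ≠ m * n := fun e =>
  h.one_lt_n.ne (Nat.eq_of_mul_eq_mul_left (zero_lt_one.trans h.one_lt_m) ((mul_one m).trans e))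

omit [Finite G] in
theorem eq_m_of_not_dvd {q : ℕ} (hqn : q ∣ n) {x : G} (hx : x ∉ center G)
    (hd : ¬ q ∣ (cz x).index) : (cz x).index = m :=
  (h.cases_nc hx).resolve_right fun e => hd (e ▸ hqn.mul_left m)

omit [Finite G] in
theorem eq_m_of_dvd_m {x : G} (hx : x ∉ center G) (hd : (cz x).index ∣ m) : (cz x).index = m :=
  Nat.dvd_antisymm hd (h.m_dvd hx)

omit [Finite G] in
theorem notMem_of_index_m {x : G} (hx : (cz x).index = m) : x ∉ center G := fun hc => by
  rw [index_cz_eq_one_iff.mpr hc] at hx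
  exact h.one_lt_m.ne hx

omit [Finite G] in
theorem notMem_of_index_mn {x : G} (hx : (cz x).index = m * n) : x ∉ center G := fun hc => by
  rw [index_cz_eq_one_iff.mpr hc] at hx
  exact (one_lt_mul'' h.one_lt_m h.one_lt_n).ne hx

/-- Containment of the centralizer of an element of index `m` forces equality. -/
theorem cz_eq_of_le {u v : G} (hu : (cz u).index = m) (hv : v ∉ center G) (hle : cz u ≤ cz v) :
    cz u = cz v :=
  eq_of_le_of_index hle (hu.trans (h.eq_m_of_dvd_m hv (hu ▸ index_dvd_of_le hle)).symm)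

/-- Some noncentral primary element has index `m`. -/
theorem exists_primary_m : ∃ (r : ℕ) (y : G), r.Prime ∧ IsPEl r y ∧ (cz y).index = m := by
  obtain ⟨x, hx⟩ := h.exists_m
  obtain ⟨r, u, hr, hu, huZ, -, hle⟩ := exists_primary_noncentral (h.notMem_of_index_m hx)
  exact ⟨r, u, hr, hu, h.eq_m_of_dvd_m huZ (hx ▸ index_dvd_of_le hle)⟩

theorem exists_pel_of_dvd {r : ℕ} [hr : Fact r.Prime] (hd : r ∣ m * n) :
    ∃ x : G, IsPEl r x ∧ x ∉ center G := by
  by_contra hcon
  push Not at hcon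
  obtain ⟨g, hg⟩ := h.exists_mn
  exact not_dvd_index_cz hcon g (hg ▸ hd)

theorem factorization_index {p : ℕ} (hp : p.Prime) (hpm : p ∣ m) {g : G} (hg : g ∉ center G) :
    (cz g).index.factorization p = m.factorization p := by
  rcases h.cases_nc hg with e | e <;> rw [e]
  rw [Nat.factorization_mul (by have := h.one_lt_m; omega) (by have := h.one_lt_n; omega),
    Finsupp.add_apply, Nat.factorization_eq_zero_of_not_dvd (h.not_dvd_n hp hpm), add_zero]

omit h in
theorem factorization_cz (r : ℕ) (g : G) :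
    (Nat.card (cz g)).factorization r + (cz g).index.factorization r =
      (Nat.card G).factorization r := by
  rw [← card_mul_index (cz g), Nat.factorization_mul Nat.card_pos.ne' index_ne_zero_of_finite,
    Finsupp.add_apply]

theorem factorization_card {p : ℕ} (hp : p.Prime) (hpm : p ∣ m) {g : G} (hg : g ∉ center G) :
    (Nat.card (cz g)).factorization p + m.factorization p = (Nat.card G).factorization p := by
  rw [← h.factorization_index hp hpm hg, factorization_cz]

theorem isSylowIn_of_le {p : ℕ} [hp : Fact p.Prime] (hpm : p ∣ m) {u v : G} (hu : u ∉ center G)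
    (hv : v ∉ center G) {S : Subgroup G} (hS : IsSylowIn p S (cz u)) (hle : S ≤ cz v) :
    IsSylowIn p S (cz v) := by
  refine ⟨hle, hS.2.trans ?_⟩
  have h1 := h.factorization_card hp.out hpm hu
  have h2 := h.factorization_card hp.out hpm hv
  rw [show (Nat.card (cz u)).factorization p = (Nat.card (cz v)).factorization p by omega]

/-- A noncentral `r`-element in the centralizer of `g`. -/
theorem exists_pel_cz {r : ℕ} [hr : Fact r.Prime] {g g0 x : G} (hxg : x ∈ cz g0) (hx : IsPEl r x)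
    (hxZ : x ∉ center G)
    (hle : (cz g).index.factorization r ≤ (cz g0).index.factorization r) :
    ∃ u ∈ cz g, u ∉ center G ∧ IsPEl r u := by
  by_contra hcon
  push Not at hcon
  obtain ⟨S, hS, -⟩ := exists_isSylowIn (IsPGroup.of_bot : IsPGroup r (⊥ : Subgroup G)) (bot_le : ⊥ ≤ cz g)
  have hSZ : S ≤ center G := fun u hu => by
    by_contra huZ
    exact hcon u (hS.1 hu) huZ (IsPEl.of_mem hS.isPGroup hu)
  have hj : S ⊔ zpowers x ≤ cz g0 := sup_le (hSZ.trans (center_le_cz g0)) (zpowers_le.mpr hxg)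
  haveI : S.Normal := ⟨fun u hu c => by
    rw [mem_center_iff.mp (hSZ hu) c, mul_inv_cancel_right]; exact hu⟩
  have hp' : IsPGroup r (S ⊔ zpowers x : Subgroup G) := hS.isPGroup.to_sup_of_normal_left hx.isPGroup_zpowers
  have hcard := card_dvd_ordProj hp' hj
  have h1 := factorization_cz r g
  have h2 := factorization_cz r g0
  have heq : S = S ⊔ zpowers x := Subgroup.eq_of_le_of_card_ge le_sup_left (by
    rw [hS.2]
    exact (Nat.le_of_dvd (pow_pos hr.out.pos _) hcard).trans
      (Nat.pow_le_pow_right hr.out.pos (by omega)))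
  exact hxZ (hSZ (heq.ge (mem_sup_right (mem_zpowers x))))

/-- Every noncentral element commutes with a noncentral `p`-element, for `p ∣ m`. -/
theorem exists_pel {p : ℕ} [hp : Fact p.Prime] (hpm : p ∣ m) {g : G} (hg : g ∉ center G) :
    ∃ u ∈ cz g, u ∉ center G ∧ IsPEl p u := by
  obtain ⟨x, hx, hxZ⟩ := h.exists_pel_of_dvd (hpm.mul_right n)
  exact h.exists_pel_cz (self_mem_cz x) hx hxZ
    (by rw [h.factorization_index hp.out hpm hg, h.factorization_index hp.out hpm hxZ])

/-- Elements of index `m n` with prime power order have central `r'`-parts in their centralizer. -/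
theorem cz_le_of_mn {r : ℕ} (hr : r.Prime) {x t : G} (hx : IsPEl r x) (hxi : (cz x).index = m * n)
    (ht : t ∈ cz x) (hrt : ¬ r ∣ orderOf t) : cz x ≤ cz t := by
  have he := cz_mul ht (hx.coprime hr hrt)
  have h1 : cz (x * t) = cz x := eq_of_le_of_index (he.le.trans inf_le_left)
    (Nat.dvd_antisymm ((h.index_dvd _).trans (dvd_of_eq hxi.symm))
      (index_dvd_of_le (he.le.trans inf_le_left)))
  exact h1.ge.trans (he.le.trans inf_le_right)

/-- The centralizer of a `p`-element with abelian Sylow `p`-subgroup centralizes it. -/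
theorem le_centralizer_of_abelian {p : ℕ} [hp : Fact p.Prime] (hpm : p ∣ m) {u : G}
    (hu : IsPEl p u) (huZ : u ∉ center G) {S : Subgroup G} (hS : IsSylowIn p S (cz u))
    [hSa : IsMulCommutative S] : cz u ≤ centralizer (S : Set G) := by
  rw [← subgroupOf_eq_top]
  refine eq_top_of_conjCover fun g => ?_
  obtain ⟨a, b, hab, ha, hb⟩ := exists_split p hp.out (g : G)
  have hga : (g : G) ^ a ∈ cz u := pow_mem g.2 a
  have hgb : (g : G) ^ b ∈ cz u := pow_mem g.2 b
  have hco := hu.coprime hp.out hb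
  have he := cz_mul hgb hco
  have hne : u * (g : G) ^ b ∉ center G := fun hc => huZ (cz_eq_top_iff.mp (top_le_iff.mp
    ((cz_eq_top_iff.mpr hc).ge.trans (he.le.trans inf_le_left))))
  have hgab : (g : G) ^ a ∈ cz (u * (g : G) ^ b) := by
    rw [he]
    exact ⟨hga, mem_cz.mpr (Commute.pow_pow_self (g : G) a b)⟩
  obtain ⟨T, hT, haT⟩ := exists_isSylowIn_mem ha hgab
  obtain ⟨c, hc, hcT⟩ :=
    hS.exists_conj (h.isSylowIn_of_le hpm hne huZ hT (hT.1.trans (he.le.trans inf_le_left)))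
  refine ⟨⟨c, hc⟩, ?_⟩
  rw [mem_pointwise_smul_iff_inv_smul_mem, mem_subgroupOf]
  rw [MulAut.smul_def, MulAut.conj_inv_apply, coe_mul, coe_mul, coe_inv]
  show c⁻¹ * (g : G) * c ∈ centralizer (S : Set G)
  have hsand : ∀ y : G, y ∈ centralizer (T : Set G) → c⁻¹ * y * c ∈ centralizer (S : Set G) := by
    intro y hy
    refine mem_centralizer_iff.mpr fun s hs => ?_
    have h2 := mem_centralizer_iff.mp hy (c * s * c⁻¹) (hcT.le (smul_mem_pointwise_smul s _ S hs))
    calc s * (c⁻¹ * y * c) = c⁻¹ * (c * s * c⁻¹ * y) * c := by group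
      _ = c⁻¹ * (y * (c * s * c⁻¹)) * c := by rw [h2]
      _ = _ := by group
  refine hsand _ (hab ▸ mul_mem ?_ ?_)
  · refine mem_centralizer_iff.mpr fun t ht => ?_
    have hTa : IsMulCommutative T := by
      rw [← hcT]
      refine ⟨⟨fun x y => Subtype.ext ?_⟩⟩
      obtain ⟨x', hx', ex⟩ := x.2
      obtain ⟨y', hy', ey⟩ := y.2
      have e : x' * y' = y' * x' :=
        congrArg Subtype.val (hSa.is_comm.comm (⟨x', hx'⟩ : S) ⟨y', hy'⟩)
      show (x : G) * y = y * x
      have ex' : MulAut.conj c x' = x := ex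
      have ey' : MulAut.conj c y' = y := ey
      rw [← ex', ← ey', ← map_mul, e, map_mul]
    exact congrArg Subtype.val (hTa.is_comm.comm (⟨t, ht⟩ : T) ⟨_, haT⟩)
  · exact mem_centralizer_iff.mpr fun t ht => mem_cz.mp ((hT.1.trans (he.le.trans inf_le_right)) ht)

/-- Elements of prime power order `q ^ k`, `q ∣ n`, have index at most `m`. -/
theorem index_eq_m_of_dvd_n {q : ℕ} [hq : Fact q.Prime] (hqn : q ∣ n) {x : G} (hx : IsPEl q x)
    (hxZ : x ∉ center G) : (cz x).index = m := by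
  refine (h.cases_nc hxZ).resolve_right fun hxi => ?_
  obtain ⟨p, hp, hpm⟩ := Nat.exists_prime_and_dvd h.one_lt_m.ne'
  haveI := Fact.mk hp
  have hpq : p ≠ q := fun e => h.not_dvd_n hp hpm (e ▸ hqn)
  have hpel : ∀ {t : G}, IsPEl p t → ¬ q ∣ orderOf t := by
    rintro t ⟨k, hk⟩ hd
    rw [hk] at hd
    exact hpq ((Nat.prime_dvd_prime_iff_eq hq.out hp).mp (hq.out.dvd_of_dvd_pow hd)).symm
  obtain ⟨u0, hu0x, hu0Z, hu0p⟩ := h.exists_pel hpm hxZ
  obtain ⟨S, hS, hu0S⟩ := exists_isSylowIn_mem hu0p hu0x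
  have hcl : ∀ u ∈ S, cz x ≤ cz u := fun u hu =>
    h.cz_le_of_mn hq.out hx hxi (hS.1 hu) (hpel (IsPEl.of_mem hS.isPGroup hu))
  haveI : IsMulCommutative S := ⟨⟨fun a b => Subtype.ext (mem_cz.mp (hcl b b.2 (hS.1 a.2)))⟩⟩
  have hC : ∀ u ∈ S, u ∉ center G → cz u ≤ centralizer (S : Set G) := fun u hu huZ =>
    h.le_centralizer_of_abelian hpm (IsPEl.of_mem hS.isPGroup hu) huZ
      (h.isSylowIn_of_le hpm hxZ huZ hS (hS.1.trans (hcl u hu)))
  refine not_cover hu0Z fun g hg => ?_
  obtain ⟨w, hwg, hwZ, hwp⟩ := h.exists_pel hpm hg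
  suffices hkey : ∃ c : G, c * w * c⁻¹ ∈ S by
    obtain ⟨c, hc⟩ := hkey
    refine ⟨c⁻¹, ?_⟩
    rw [← smul_cz, mem_pointwise_smul_iff_inv_smul_mem, MulAut.smul_def, MulAut.conj_inv_apply, inv_inv]
    refine mem_cz.mpr (mem_centralizer_iff.mp (hC _ hc (conj_notMem_center hwZ) ?_) u0 hu0S).symm
    exact conj_mem_cz_iff.mpr (mem_cz_comm.mp hwg)
  have hfac : (cz w).index.factorization q ≤ (cz x).index.factorization q := by
    refine (Nat.factorization_le_iff_dvd index_ne_zero_of_finite index_ne_zero_of_finite).mpr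
      (hxi ▸ h.index_dvd w) q
  obtain ⟨x', hx'w, hx'Z, hx'q⟩ := h.exists_pel_cz (self_mem_cz x) hx hxZ hfac
  -- an element `y` of index `m` commuting with a conjugate of `w`
  obtain ⟨y, hyi, c, hcw⟩ : ∃ y, (cz y).index = m ∧ ∃ c : G, c * w * c⁻¹ ∈ cz y := by
    rcases h.cases_nc hx'Z with e | e
    · exact ⟨x', e, 1, by simpa using mem_cz_comm.mp hx'w⟩
    · obtain ⟨r, y, hr, hyr, hyi⟩ := h.exists_primary_m
      haveI := Fact.mk hr
      obtain ⟨Q, hQ, -⟩ := exists_isSylowIn (IsPGroup.of_bot : IsPGroup q (⊥ : Subgroup G)) (bot_le : ⊥ ≤ cz y)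
      have hQG : IsSylowIn q Q ⊤ := by
        refine ⟨le_top, hQ.2.trans ?_⟩
        rw [card_top, ← factorization_cz q y, hyi, Nat.factorization_eq_zero_of_not_dvd
          (fun hd => h.not_dvd_n hq.out hd hqn), add_zero]
      obtain ⟨c, -, hc⟩ := hQG.exists_conj_mem hx'q (mem_top x')
      have hyc : y ∈ cz (c * x' * c⁻¹) := mem_cz_comm.mp (hQ.1 hc)
      have hwc : c * w * c⁻¹ ∈ cz (c * x' * c⁻¹) := conj_mem_cz_iff.mpr (mem_cz_comm.mp hx'w)
      refine ⟨y, hyi, c, mem_cz_comm.mp ?_⟩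
      exact h.cz_le_of_mn hq.out (hx'q.conj c) ((index_cz_conj c x').trans e) hwc
        (hpel (hwp.conj c)) hyc
  -- a conjugate of `x` lies in `cz y`
  obtain ⟨Q, hQ, -⟩ := exists_isSylowIn (IsPGroup.of_bot : IsPGroup q (⊥ : Subgroup G)) (bot_le : ⊥ ≤ cz y)
  have hQG : IsSylowIn q Q ⊤ := by
    refine ⟨le_top, hQ.2.trans ?_⟩
    rw [card_top, ← factorization_cz q y, hyi, Nat.factorization_eq_zero_of_not_dvd
      (fun hd => h.not_dvd_n hq.out hd hqn), add_zero]
  obtain ⟨d, -, hd⟩ := hQG.exists_conj_mem hx (mem_top x)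
  have hyd : d⁻¹ * y * d⁻¹⁻¹ ∈ cz x := by
    rw [← conj_mem_cz_iff (c := d)]
    have e : d * (d⁻¹ * y * d⁻¹⁻¹) * d⁻¹ = y := by group
    rw [e]
    exact mem_cz_comm.mp (hQ.1 hd)
  have hSy : S ≤ cz (d⁻¹ * y * d⁻¹⁻¹) := fun u hu => mem_cz_comm.mp (hcl u hu hyd)
  have hyZ : y ∉ center G := h.notMem_of_index_m hyi
  have hSy' := h.isSylowIn_of_le hpm hxZ (conj_notMem_center (c := d⁻¹) hyZ) hS hSy
  obtain ⟨e, -, he⟩ := hSy'.exists_conj_mem ((hwp.conj c).conj d⁻¹)
    (conj_mem_cz_iff.mpr hcw)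
  exact ⟨e * (d⁻¹ * c), by convert he using 1; group⟩

end OneMMn

end Cfsg.Agent.H89
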