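import Mathlib

/-!
# Two commuting automorphisms of order `p` acting semi-regularly on an abelian `p'`-group
-/

namespace Cfsg.Agent.H89

/-- An elementary abelian group of order `p ^ 2` cannot act semi-regularly, outside `W`, on an
abelian group with an element of order prime to `p` outside `W`. -/
theorem exists_eq_one_of_semiregular {U : Type*} [CommGroup U] [Finite U] (W : Subgroup U) {v : U}
    (hv : v ∉ W) {p : ℕ} [hp : Fact p.Prime] (hvp : (orderOf v).Coprime p) (a b : MulAut U)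
    (hab : Commute a b) (ha : a ^ p = 1) (hb : b ^ p = 1)
    (hfix : ∀ i j : ℕ, a ^ i * b ^ j ≠ 1 → ∀ u, (a ^ i * b ^ j) u = u → u ∈ W) :
    ∃ i j : ZMod p, (i ≠ 0 ∨ j ≠ 0) ∧ a ^ i.val * b ^ j.val = 1 := by
  by_contra hcon
  push Not at hcon
  let A : ZMod p × ZMod p → MulAut U := fun s => a ^ s.1.val * b ^ s.2.val
  have hpow : ∀ {c : MulAut U}, c ^ p = 1 → ∀ i j : ZMod p, c ^ (i + j).val = c ^ i.val * c ^ j.val := by
    intro c hc i j
    rw [ZMod.val_add, ← pow_add]
    exact (pow_eq_pow_mod _ hc).symm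
  have hA : ∀ s t, A (s + t) = A s * A t := fun s t => by
    simp only [A, Prod.fst_add, Prod.snd_add]
    rw [hpow ha, hpow hb]
    exact ((hab.pow_pow t.1.val s.2.val).mul_mul_mul_comm _ _)
  let F : ZMod p × ZMod p → U := fun s => A s v
  have hF : ∀ s t, A s (F t) = F (s + t) := fun s t => by
    show A s (A t v) = A (s + t) v
    rw [hA]
    rfl
  let L : ZMod p × ZMod p → U := fun c => ∏ t : ZMod p, F (t * c.1, t * c.2)
  have hmemA : ∀ c : ZMod p × ZMod p, c ≠ 0 → ∀ u, A c u = u → u ∈ W := by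
    intro c hc u hu
    refine hfix _ _ (hcon c.1 c.2 ?_) u hu
    by_contra hne
    push Not at hne
    exact hc (Prod.ext hne.1 hne.2)
  have hL : ∀ c : ZMod p × ZMod p, c ≠ 0 → L c ∈ W := by
    intro c hc
    refine hmemA c hc _ ?_
    show A c (∏ t : ZMod p, F (t * c.1, t * c.2)) = _
    rw [map_prod]
    refine Eq.trans ?_ (Equiv.prod_comp (Equiv.addLeft (1 : ZMod p)) _)
    refine Finset.prod_congr rfl fun t _ => ?_
    rw [hF]
    congr 1
    refine Prod.ext ?_ ?_ <;> simp [add_mul]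
  let M : U := ∏ s, F s
  have hM : M ∈ W := by
    refine hmemA (1, 0) (by simp [Prod.ext_iff]) _ ?_
    show A (1, 0) (∏ s, F s) = _
    rw [map_prod]
    refine Eq.trans ?_ (Equiv.prod_comp (Equiv.addLeft ((1, 0) : ZMod p × ZMod p)) _)
    exact Finset.prod_congr rfl fun t _ => hF _ _
  classical
  have hid : (∏ k : ZMod p, L (1, k)) * L (0, 1) = v ^ p * M := by
    have h1 : (∏ k : ZMod p, L (1, k)) = ∏ t : ZMod p, ∏ k : ZMod p, F (t, t * k) := by
      rw [Finset.prod_comm]
      simp only [L, mul_one]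
    have h2 : L (0, 1) = ∏ j : ZMod p, F (0, j) := by simp [L]
    have h3 : M = ∏ t : ZMod p, ∏ j : ZMod p, F (t, j) := Fintype.prod_prod_type F
    have h4 : ∏ k : ZMod p, F ((0 : ZMod p), 0 * k) = v ^ p := by
      simp [F, A]
    rw [h1, h2, h3, ← Finset.mul_prod_erase _ _ (Finset.mem_univ (0 : ZMod p)), h4,
      ← Finset.mul_prod_erase _ (fun t => ∏ j : ZMod p, F (t, j)) (Finset.mem_univ (0 : ZMod p)),
      mul_assoc, mul_comm (∏ t ∈ _, _) (∏ j, F (0, j))]
    congr 2
    refine Finset.prod_congr rfl fun t ht => ?_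
    exact Equiv.prod_comp (Equiv.mulLeft₀ t (Finset.ne_of_mem_erase ht)) (fun j => F (t, j))
  have hvpW : v ^ p ∈ W := by
    have h5 : (∏ k : ZMod p, L (1, k)) * L (0, 1) ∈ W :=
      W.mul_mem (W.prod_mem fun k _ => hL _ (by simp [Prod.ext_iff])) (hL _ (by simp [Prod.ext_iff]))
    rw [hid] at h5
    exact (W.mul_mem_cancel_right hM).mp h5
  obtain ⟨k, hk⟩ := exists_pow_eq_self_of_coprime (x := v) hvp.symm
  exact hv (hk ▸ W.pow_mem hvpW k)

end Cfsg.Agent.H89
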