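import Cfsg.Agent.H89.ClassSizesOneMMn
import Cfsg.Agent.H89.SemiregularPair
import Cfsg.Agent.H27.SmallDegree
import Cfsg.Agent.H19.Fitting

/-!
# Class sizes `1`, `m`, `m n`: centralizers that are normalised by a Sylow subgroup
-/

namespace Cfsg.Agent.H89

open Subgroup
open scoped Pointwise

variable {G : Type*} [Group G] [Finite G]

theorem IsSylowIn.of_not_dvd {q : ℕ} {Q H : Subgroup G} (hQ : IsSylowIn q Q H)
    (hd : ¬ q ∣ H.index) : IsSylowIn q Q ⊤ := by
  refine ⟨le_top, hQ.2.trans ?_⟩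
  rw [card_top, ← card_mul_index H, Nat.factorization_mul Nat.card_pos.ne' index_ne_zero_of_finite,
    Finsupp.add_apply, Nat.factorization_eq_zero_of_not_dvd hd, add_zero]

theorem exists_sylowTop_le {q : ℕ} [Fact q.Prime] {y : G} (hd : ¬ q ∣ (cz y).index) :
    ∃ Q, IsSylowIn q Q ⊤ ∧ Q ≤ cz y := by
  obtain ⟨Q, hQ, -⟩ := exists_isSylowIn (IsPGroup.of_bot : IsPGroup q (⊥ : Subgroup G)) (bot_le : ⊥ ≤ cz y)
  exact ⟨Q, hQ.of_not_dvd hd, hQ.1⟩

theorem IsSylowIn.mem_of_le_cz {q : ℕ} [Fact q.Prime] {Q : Subgroup G} (hQ : IsSylowIn q Q ⊤) {z : G}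
    (hz : IsPEl q z) (hQz : Q ≤ cz z) : z ∈ Q := by
  have hn : Q ≤ normalizer (zpowers z : Set G) :=
    H20.le_normalizer_of_le_centralizer fun a ha => mem_centralizer_iff.mpr fun b hb => by
      obtain ⟨k, rfl⟩ := mem_zpowers_iff.mp hb
      exact ((Commute.zpow_right (mem_cz.mp (hQz ha)) k : Commute a (z ^ k))).eq.symm
  have hp : IsPGroup q (Q ⊔ zpowers z : Subgroup G) :=
    hQ.isPGroup.to_sup_of_normal_right' hz.isPGroup_zpowers hn
  exact (hQ.eq_of_le hp le_sup_left le_top).ge (mem_sup_right (mem_zpowers z))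

theorem card_sup_mul_inf_of_le_normalizer {H K : Subgroup G}
    (hn : H ≤ normalizer (K : Set G)) :
    Nat.card (H ⊔ K : Subgroup G) * Nat.card (H ⊓ K : Subgroup G) = Nat.card H * Nat.card K := by
  haveI : (K.subgroupOf (H ⊔ K)).Normal :=
    (normal_subgroupOf_iff_le_normalizer le_sup_right).2 (sup_le hn Subgroup.le_normalizer)
  have hmul : ∀ {A B : Subgroup G}, A ≤ B → Nat.card A * A.relIndex B = Nat.card B := fun hAB => by
    have := Subgroup.relIndex_mul_relIndex (⊥ : Subgroup G) _ _ bot_le hAB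
    rwa [relIndex_bot_left, relIndex_bot_left] at this
  have h1 : Nat.card K * K.relIndex (H ⊔ K) = Nat.card (H ⊔ K : Subgroup G) := hmul le_sup_right
  have h2 : Nat.card (H ⊓ K : Subgroup G) * (H ⊓ K).relIndex H = Nat.card H := hmul inf_le_left
  have h3 : K.relIndex (H ⊔ K) = K.relIndex H := by
    have := Subgroup.relIndex_sup_right (H := H.subgroupOf (H ⊔ K)) (K := K.subgroupOf (H ⊔ K))
    rw [← Subgroup.subgroupOf_sup le_sup_left le_sup_right, Subgroup.relIndex_subgroupOf le_sup_left,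
      Subgroup.relIndex_subgroupOf le_rfl] at this
    exact this
  rw [inf_relIndex_left] at h2
  rw [← h1, h3, ← h2]
  ring

/-- A Sylow subgroup normalising `C` meets it in a Sylow subgroup of `C`. -/
theorem IsSylowIn.inf_of_le_normalizer {p : ℕ} [hp : Fact p.Prime] {P C : Subgroup G}
    (hP : IsSylowIn p P ⊤) (hn : P ≤ normalizer (C : Set G)) : IsSylowIn p (P ⊓ C) C := by
  refine ⟨inf_le_right, ?_⟩
  have h1 := card_sup_mul_inf_of_le_normalizer hn
  have h2 := congrArg (fun k => k.factorization p) h1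
  simp only [Nat.factorization_mul Nat.card_pos.ne' Nat.card_pos.ne', Finsupp.add_apply] at h2
  have h3 : (Nat.card (P ⊔ C : Subgroup G)).factorization p ≤ (Nat.card G).factorization p :=
    (Nat.factorization_le_iff_dvd Nat.card_pos.ne' Nat.card_pos.ne').mpr (card_subgroup_dvd_card _) p
  have h4 : (Nat.card P).factorization p = (Nat.card G).factorization p := by
    rw [hP.2, card_top, hp.out.factorization_pow, Finsupp.single_eq_same]
  have h5 : (Nat.card (P ⊓ C : Subgroup G)).factorization p ≤ (Nat.card C).factorization p :=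
    (Nat.factorization_le_iff_dvd Nat.card_pos.ne' Nat.card_pos.ne').mpr (card_dvd_of_le inf_le_right) p
  obtain ⟨k, hk⟩ := IsPGroup.iff_card.mp (hP.isPGroup.to_le (inf_le_left : P ⊓ C ≤ P))
  rw [hk, hp.out.factorization_pow, Finsupp.single_eq_same] at h2 h5
  rw [hk]
  congr 1
  omega

/-- Commutators of elements of a `p`-group lie in every subgroup of index `p`. -/
theorem commutator_mem_of_index_prime {p : ℕ} [hp : Fact p.Prime] {P S : Subgroup G}
    (hP : IsPGroup p P) (hSP : S ≤ P) (hidx : S.relIndex P = p) {a b : G} (ha : a ∈ P)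
    (hb : b ∈ P) : a * b * a⁻¹ * b⁻¹ ∈ S := by
  have hc : Nat.card P = Nat.card S * p := by
    rw [← hidx, ← Nat.card_congr (subgroupOfEquivOfLe hSP).toEquiv]
    exact (card_mul_index _).symm
  haveI : (S.subgroupOf P).Normal := by
    obtain ⟨k, hk⟩ := IsPGroup.iff_card.mp hP
    refine Subgroup.normal_of_index_eq_minFac_card ?_
    rw [show (S.subgroupOf P).index = p from hidx, hk]
    refine (Nat.Prime.pow_minFac hp.out ?_).symm
    rintro rfl
    rw [pow_zero] at hk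
    rw [hk] at hc
    exact hp.out.ne_one (Nat.eq_one_of_mul_eq_one_left hc.symm)
  have hcy : IsCyclic (P ⧸ S.subgroupOf P) :=
    isCyclic_of_prime_card (p := p) (by rw [← index_eq_card]; exact hidx)
  letI : CommGroup (P ⧸ S.subgroupOf P) := IsCyclic.commGroup
  have h1 : (QuotientGroup.mk ((⟨a, ha⟩ : P) * ⟨b, hb⟩ * (⟨a, ha⟩ : P)⁻¹ * (⟨b, hb⟩ : P)⁻¹) :
      P ⧸ S.subgroupOf P) = 1 := by
    simp only [QuotientGroup.mk_mul, QuotientGroup.mk_inv]
    rw [mul_comm (QuotientGroup.mk (⟨a, ha⟩ : P) : P ⧸ S.subgroupOf P), mul_inv_cancel_right,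
      mul_inv_cancel]
  exact (QuotientGroup.eq_one_iff (N := S.subgroupOf P) _).mp h1

/-- A normal subgroup of a `p`-group, not in the centre, contains an element of order `p` modulo
the centre that is central modulo the centre. -/
theorem exists_central_mod_center {p : ℕ} [hp : Fact p.Prime] {P N : Subgroup G} (hP : IsPGroup p P)
    (hNP : N ≤ P) (hN : ∀ x ∈ P, ∀ a ∈ N, x * a * x⁻¹ ∈ N) (hNZ : ¬ N ≤ center G) :
    ∃ w ∈ N, w ∉ center G ∧ w ^ p ∈ center G ∧ ∀ x ∈ P, x * w * x⁻¹ * w⁻¹ ∈ center G := by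
  let f := QuotientGroup.mk' (center G)
  let Pb : Subgroup (G ⧸ center G) := P.map f
  let Nb : Subgroup Pb := (N.map f).subgroupOf Pb
  haveI : Nb.Normal := ⟨by
    rintro ⟨n', hn'⟩ ⟨a, ha, hae⟩ ⟨_, x, hx, rfl⟩
    refine ⟨x * a * x⁻¹, hN x hx a ha, ?_⟩
    rw [map_mul, map_mul, map_inv, hae]
    rfl⟩
  have hne : Nb ≠ ⊥ := by
    obtain ⟨a, ha, haZ⟩ := SetLike.not_le_iff_exists.mp hNZ
    refine (Subgroup.ne_bot_iff_exists_ne_one (H := Nb)).2
      ⟨⟨⟨f a, mem_map_of_mem f (hNP ha)⟩, mem_map_of_mem f ha⟩, fun e => haZ ?_⟩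
    exact (QuotientGroup.eq_one_iff a).mp (congrArg (fun t : Nb => ((t : Pb) : G ⧸ center G)) e)
  obtain ⟨⟨u, hu⟩, hu1⟩ := Subgroup.ne_bot_iff_exists_ne_one.mp
    (H27.inf_center_ne_bot (hP.map f) Nb hne)
  obtain ⟨k, hk⟩ := IsPGroup.iff_orderOf.mp (hP.map f) u
  have hu1' : u ≠ 1 := fun e => hu1 (Subtype.ext e)
  have hk0 : k ≠ 0 := by
    rintro rfl
    exact hu1' (orderOf_eq_one_iff.mp (by rw [hk, pow_zero]))
  obtain ⟨k, rfl⟩ := Nat.exists_eq_succ_of_ne_zero hk0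
  have huo : orderOf (u ^ p ^ k) = p := by
    rw [orderOf_pow_of_dvd (pow_ne_zero _ hp.out.ne_zero) (hk ▸ pow_dvd_pow p (Nat.le_succ k)),
      hk, pow_succ, Nat.mul_div_cancel_left _ (pow_pos hp.out.pos k)]
  obtain ⟨w, hw, hwu⟩ := (Nb ⊓ center Pb).pow_mem hu (p ^ k) |>.1
  refine ⟨w, hw, fun hwZ => ?_, ?_, fun x hx => ?_⟩
  · have e : (u ^ p ^ k : Pb) = 1 := Subtype.ext (hwu.symm.trans ((QuotientGroup.eq_one_iff w).mpr hwZ))
    rw [e, orderOf_one] at huo
    exact hp.out.ne_one huo.symm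
  · refine (QuotientGroup.eq_one_iff (w ^ p)).mp ?_
    show f (w ^ p) = 1
    have e : (u ^ p ^ k) ^ p = 1 := orderOf_dvd_iff_pow_eq_one.mp (dvd_of_eq huo)
    rw [map_pow, hwu]
    exact congrArg Subtype.val e
  · refine (QuotientGroup.eq_one_iff _).mp ?_
    show f (x * w * x⁻¹ * w⁻¹) = 1
    have hc := mem_center_iff.mp ((center Pb).pow_mem (mem_inf.mp hu).2 (p ^ k))
      ⟨f x, mem_map_of_mem f hx⟩
    have hc' : f x * f w = f w * f x := by
      rw [hwu]
      exact congrArg Subtype.val hc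
    rw [map_mul, map_mul, map_mul, map_inv, map_inv, hc', mul_inv_cancel_right, mul_inv_cancel]

/-- In a finite group the `p`-elements of the Fitting subgroup lie in the `p`-core. -/
theorem mem_pCore_of_pel_fitting {p : ℕ} [Fact p.Prime] {x : G}
    (hx : x ∈ Cfsg.fittingSubgroup G) (hxp : IsPEl p x) : x ∈ Cfsg.pCore p G := by
  set F := Cfsg.fittingSubgroup G
  haveI := H19.fitting_normal G
  haveI : Group.IsNilpotent F := H19.fitting_isNilpotent
  have h1 : IsPGroup p ((zpowers x).subgroupOf F) :=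
    hxp.isPGroup_zpowers.of_equiv (subgroupOfEquivOfLe (zpowers_le.mpr hx)).symm
  obtain ⟨P, hP⟩ := h1.exists_le_sylow
  haveI : (P : Subgroup F).Characteristic := P.characteristic_of_normal inferInstance
  exact H19.le_pCore ConjAct.normal_of_characteristic_of_normal (P.2.map F.subtype)
    ⟨⟨x, hx⟩, hP (mem_zpowers x), rfl⟩

namespace OneMMn

variable {m n : ℕ} (h : OneMMn G m n)
include h

/-- A Sylow `p`-subgroup normalising `C(w)`, `w` central mod centre, induces a group of order `p`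
on `C(w)`: so `p` divides `m` exactly once. -/
theorem index_prime_of_normalized {p : ℕ} [hp : Fact p.Prime] (hpm : p ∣ m) {w : G}
    (hwp : IsPEl p w) (hwZ : w ∉ center G) (hwp' : w ^ p ∈ center G) {P : Subgroup G}
    (hP : IsSylowIn p P ⊤) (hcomm : ∀ x ∈ P, x * w * x⁻¹ * w⁻¹ ∈ center G)
    (hc : ∀ t ∈ cz w, ¬ p ∣ orderOf t → cz w ≤ cz t) {r : ℕ} [hr : Fact r.Prime] (hrp : r ≠ p)
    {v : G} (hvw : v ∈ cz w) (hvZ : v ∉ center G) (hv : IsPEl r v) :
    m.factorization p = 1 ∧ IsSylowIn p (P ⊓ cz w) (cz w) ∧ (P ⊓ cz w).relIndex P = p ∧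
      P ≤ normalizer (cz w : Set G) := by
  have hnorm : ∀ x ∈ P, ∀ a, a ∈ cz w ↔ x * a * x⁻¹ ∈ cz w := by
    intro x hx a
    have e : x * w * x⁻¹ = w * (x * w * x⁻¹ * w⁻¹) := by
      rw [mem_center_iff.mp (hcomm x hx) w]
      group
    conv_lhs => rw [← conj_mem_cz_iff (c := x), e, cz_mul_central (hcomm x hx)]
  have hPn : P ≤ normalizer (cz w : Set G) := fun x hx => mem_normalizer_iff.mpr (hnorm x hx)
  set X := P ⊓ cz w with hXdef
  have hX : IsSylowIn p X (cz w) := hP.inf_of_le_normalizer hPn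
  have hrel : ∀ {t : G}, IsPEl r t → ¬ p ∣ orderOf t := by
    rintro t ⟨k, hk⟩ hd
    rw [hk] at hd
    exact hrp ((Nat.prime_dvd_prime_iff_eq hp.out hr.out).mp (hp.out.dvd_of_dvd_pow hd)).symm
  have hcent : ∀ {t : G}, t ∈ cz w → IsPEl r t → cz w ≤ cz t := fun ht htr => hc _ ht (hrel htr)
  let U : Subgroup G :=
    { carrier := {t | t ∈ cz w ∧ IsPEl r t}
      one_mem' := ⟨one_mem _, 0, by rw [orderOf_one, pow_zero]⟩
      mul_mem' := by
        rintro a b ⟨ha, har⟩ ⟨hb, hbr⟩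
        refine ⟨mul_mem ha hb, ?_⟩
        have hab : Commute a b := mem_cz.mp (hcent hb hbr ha)
        obtain ⟨i, hi⟩ := har
        obtain ⟨j, hj⟩ := hbr
        obtain ⟨k, -, hk⟩ := (Nat.dvd_prime_pow hr.out).mp
          (hab.orderOf_mul_dvd_mul_orderOf.trans (dvd_of_eq (by rw [hi, hj, ← pow_add])))
        exact ⟨k, hk⟩
      inv_mem' := by
        rintro a ⟨ha, hk⟩
        refine ⟨inv_mem ha, ?_⟩
        rw [IsPEl, orderOf_inv]
        exact hk }
  have hUmem : ∀ {t : G}, t ∈ U ↔ t ∈ cz w ∧ IsPEl r t := fun {t} => Iff.rfl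
  letI : CommGroup U := { (inferInstance : Group U) with
    mul_comm := fun a b => Subtype.ext (mem_cz.mp (hcent (hUmem.mp b.2).1 (hUmem.mp b.2).2 (hUmem.mp a.2).1)) }
  have hUn : ∀ x ∈ P, ∀ a ∈ U, x * a * x⁻¹ ∈ U := fun x hx a ha =>
    ⟨(hnorm x hx a).mp ha.1, ha.2.conj x⟩
  let ρ : P →* MulAut U :=
    { toFun := fun x =>
        { toFun := fun a => ⟨(x : G) * a * (x : G)⁻¹, hUn x x.2 a a.2⟩
          invFun := fun a => ⟨(x : G)⁻¹ * a * (x : G)⁻¹⁻¹, hUn _ (P.inv_mem x.2) a a.2⟩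
          left_inv := fun a => Subtype.ext (by simp [mul_assoc])
          right_inv := fun a => Subtype.ext (by simp [mul_assoc])
          map_mul' := fun a b => Subtype.ext (by simp [mul_assoc]) }
      map_one' := by
        refine MulEquiv.ext fun a => Subtype.ext ?_
        show (1 : G) * a * 1⁻¹ = a
        group
      map_mul' := fun x y => by
        refine MulEquiv.ext fun a => Subtype.ext ?_
        show (x : G) * y * a * ((x : G) * y)⁻¹ = x * (y * a * (y : G)⁻¹) * (x : G)⁻¹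
        group }
  have hfix : ∀ x ∈ P, ∀ a ∈ U, a ∉ center G → x * a = a * x → x ∈ X := by
    intro x hx a ha haZ hxa
    have hle : X ⊔ zpowers x ≤ cz a :=
      sup_le (hX.1.trans (hcent (hUmem.mp ha).1 (hUmem.mp ha).2)) (zpowers_le.mpr (mem_cz.mpr hxa))
    have hXa := h.isSylowIn_of_le hpm hwZ haZ hX (hX.1.trans (hcent (hUmem.mp ha).1 (hUmem.mp ha).2))
    rw [hXa.eq_of_le (hP.isPGroup.to_le (sup_le inf_le_left (zpowers_le.mpr hx))) le_sup_left hle]
    exact mem_sup_right (mem_zpowers x)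
  have hvU : v ∈ U := ⟨hvw, hv⟩
  have hker : ∀ x : P, ρ x = 1 ↔ (x : G) ∈ X := by
    intro x
    constructor
    · intro hx
      have e : (x : G) * v * (x : G)⁻¹ = v := congrArg Subtype.val (DFunLike.congr_fun hx (⟨v, hvU⟩ : U))
      exact hfix x x.2 v hvU hvZ (mul_inv_eq_iff_eq_mul.mp e)
    · intro hx
      refine MulEquiv.ext fun a => Subtype.ext ?_
      show (x : G) * a * (x : G)⁻¹ = a
      rw [mem_cz.mp (hcent (hUmem.mp a.2).1 (hUmem.mp a.2).2 (hX.1 hx)), mul_inv_cancel_right]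
  let φ : P →* center G := MonoidHom.mk' (fun x => ⟨(x : G) * w * (x : G)⁻¹ * w⁻¹, hcomm x x.2⟩)
    fun x y => Subtype.ext (by
      show (x : G) * y * w * ((x : G) * y)⁻¹ * w⁻¹ =
        ((x : G) * w * (x : G)⁻¹ * w⁻¹) * ((y : G) * w * (y : G)⁻¹ * w⁻¹)
      have c1 := mem_center_iff.mp (hcomm y y.2)
      calc (x : G) * y * w * ((x : G) * y)⁻¹ * w⁻¹
          = (x : G) * ((y : G) * w * (y : G)⁻¹ * w⁻¹) * (w * (x : G)⁻¹ * w⁻¹) := by group
        _ = ((y : G) * w * (y : G)⁻¹ * w⁻¹) * ((x : G) * w * (x : G)⁻¹ * w⁻¹) := by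
            rw [c1 (x : G)]; group
        _ = _ := (c1 _).symm)
  have hφ : ∀ x : P, φ x = 1 → (x : G) ∈ cz w := by
    intro x hx
    have e : (x : G) * w * (x : G)⁻¹ * w⁻¹ = 1 := congrArg Subtype.val hx
    exact mem_cz.mpr (mul_inv_eq_iff_eq_mul.mp (mul_inv_eq_one.mp e))
  have hcw : ∀ x ∈ P, ∀ y ∈ P, x * y * x⁻¹ * y⁻¹ ∈ cz w := fun x hx y hy =>
    hφ (⟨x, hx⟩ * ⟨y, hy⟩ * (⟨x, hx⟩ : P)⁻¹ * (⟨y, hy⟩ : P)⁻¹) (by
      simp only [map_mul, map_inv]
      rw [mul_comm' (φ ⟨x, hx⟩) (φ ⟨y, hy⟩), mul_inv_cancel_right, mul_inv_cancel])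
  have hpowX : ∀ x ∈ P, x ^ p ∈ X := fun x hx => ⟨P.pow_mem hx p, hφ (⟨x, hx⟩ ^ p) (by
    rw [map_pow]
    refine Subtype.ext ?_
    show (x * w * x⁻¹ * w⁻¹) ^ p = 1
    have c1 := mem_center_iff.mp (hcomm x hx)
    have hcz : Commute (x * w * x⁻¹ * w⁻¹) w := (c1 w).symm
    have h3 := hcz.mul_pow p
    rw [inv_mul_cancel_right, conj_pow, mem_center_iff.mp hwp' x, mul_inv_cancel_right] at h3
    exact mul_eq_right.mp h3.symm)⟩
  have hnot : ¬ P ≤ X := by
    intro hle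
    have h1 := Nat.le_of_dvd (by rw [hX.2]; exact pow_pos hp.out.pos _) (card_dvd_of_le hle)
    rw [hP.2, hX.2, card_top, Nat.pow_le_pow_iff_right hp.out.one_lt,
      ← h.factorization_card hp.out hpm hwZ] at h1
    have h2 := (hp.out.dvd_iff_one_le_factorization (by have := h.one_lt_m; omega)).mp hpm
    omega
  obtain ⟨x, hx, hxX⟩ := SetLike.not_le_iff_exists.mp hnot
  have hgen : ∀ y ∈ P, ∃ k : ℕ, k < p ∧ (x ^ k)⁻¹ * y ∈ X := by
    intro y hy
    have hab : Commute (ρ ⟨x, hx⟩) (ρ ⟨y, hy⟩) := by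
      have h1 : ρ (⟨x, hx⟩ * ⟨y, hy⟩ * (⟨x, hx⟩ : P)⁻¹ * (⟨y, hy⟩ : P)⁻¹) = 1 :=
        (hker _).mpr ⟨P.mul_mem (P.mul_mem (P.mul_mem hx hy) (P.inv_mem hx)) (P.inv_mem hy),
          hcw x hx y hy⟩
      simp only [map_mul, map_inv] at h1
      show _ = _
      exact mul_inv_eq_iff_eq_mul.mp (mul_inv_eq_one.mp h1)
    obtain ⟨i, j, hij, h1⟩ := exists_eq_one_of_semiregular ((center G).subgroupOf U)
      (v := (⟨v, hvU⟩ : U)) (p := p) hvZ
      (by rw [orderOf_mk]; exact ((hp.out.coprime_iff_not_dvd).mpr (hrel hv)).symm)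
      _ _ hab (by rw [← map_pow]; exact (hker _).mpr (by simpa using hpowX x hx))
      (by rw [← map_pow]; exact (hker _).mpr (by simpa using hpowX y hy))
      (fun a b hne u hu => by
        by_contra huZ
        refine hne ?_
        rw [← map_pow, ← map_pow, ← map_mul, hker]
        refine hfix _ (Subtype.coe_prop _) u u.2 huZ (mul_inv_eq_iff_eq_mul.mp ?_)
        have h2 := congrArg Subtype.val hu
        rw [← map_pow, ← map_pow, ← map_mul] at h2
        exact h2)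
    rw [← map_pow, ← map_pow, ← map_mul, hker] at h1
    simp only [coe_mul, SubmonoidClass.coe_pow] at h1
    have hj : j ≠ 0 := by
      intro hj
      have hi : i ≠ 0 := hij.resolve_right (not_not.mpr hj)
      rw [hj, ZMod.val_zero, pow_zero, mul_one] at h1
      have hdiv : ¬ p ∣ i.val := fun hd => hi (by
        rw [← ZMod.natCast_zmod_val i]; exact (ZMod.natCast_eq_zero_iff _ _).mpr hd)
      obtain ⟨a, ha⟩ := Nat.exists_mul_mod_eq_one_of_coprime
        ((hp.out.coprime_iff_not_dvd).mpr hdiv).symm hp.out.one_lt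
      refine hxX ?_
      have h2 := X.pow_mem h1 a
      rw [← pow_mul, ← Nat.div_add_mod (i.val * a) p, ha.2, pow_add, pow_mul, pow_one] at h2
      exact (X.mul_mem_cancel_left (X.pow_mem (hpowX x hx) _)).mp h2
    refine ⟨(-(i * j⁻¹)).val, ZMod.val_lt _, ?_⟩
    have hXn : ∀ g ∈ P, ∀ e ∈ X, g * e * g⁻¹ ∈ X := fun g hg e he =>
      ⟨P.mul_mem (P.mul_mem hg he.1) (P.inv_mem hg), (hnorm g hg e).mp he.2⟩
    haveI : (X.subgroupOf P).Normal := ⟨fun e he g => hXn g g.2 e he⟩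
    let q := QuotientGroup.mk' (X.subgroupOf P)
    have hq1 : ∀ {e : P}, q e = 1 ↔ (e : G) ∈ X := fun {e} => QuotientGroup.eq_one_iff e
    have hpow : ∀ (g : P) (a : ZMod p) (b : ℕ), (b : ZMod p) = a → q g ^ b = q g ^ a.val := by
      intro g a b hba
      refine pow_eq_pow_iff_modEq.mpr ((Nat.ModEq.of_dvd (orderOf_dvd_of_pow_eq_one (n := p) ?_)) ?_)
      · rw [← map_pow]; exact hq1.mpr (by simpa using hpowX g g.2)
      · rw [← ZMod.natCast_eq_natCast_iff, ZMod.natCast_zmod_val, hba]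
    have h2 : q ⟨x, hx⟩ ^ i.val * q ⟨y, hy⟩ ^ j.val = 1 := by
      rw [← map_pow, ← map_pow, ← map_mul]; exact hq1.mpr h1
    have h3 : q ⟨y, hy⟩ ^ j.val = (q ⟨x, hx⟩ ^ i.val)⁻¹ := eq_inv_of_mul_eq_one_right h2
    have h4 : q ⟨y, hy⟩ = q ⟨x, hx⟩ ^ (-(i * j⁻¹)).val := by
      have h5 := congrArg (· ^ (j⁻¹).val) h3
      simp only [← pow_mul] at h5
      rw [hpow _ 1 (j.val * (j⁻¹).val) (by simp [ZMod.natCast_zmod_val, mul_inv_cancel₀ hj]),
        ZMod.val_one, pow_one, inv_pow, ← pow_mul] at h5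
      rw [h5, inv_eq_iff_mul_eq_one, ← pow_add,
        hpow _ 0 _ (by simp [ZMod.natCast_zmod_val]), ZMod.val_zero, pow_zero]
    have h6 : q ((⟨x, hx⟩ ^ (-(i * j⁻¹)).val)⁻¹ * ⟨y, hy⟩) = 1 := by
      rw [map_mul, map_inv, map_pow, h4, inv_mul_cancel]
    simpa using hq1.mp h6
  have hidx : X.relIndex P = p := by
    have hle : X.relIndex P ≤ p := by
      rw [← Nat.card_fin p]
      refine Nat.card_le_card_of_surjective
        (fun k : Fin p => (QuotientGroup.mk (⟨x, hx⟩ ^ (k : ℕ)) : P ⧸ X.subgroupOf P)) fun c => ?_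
      obtain ⟨y, rfl⟩ := Quotient.mk''_surjective c
      obtain ⟨k, hk, hky⟩ := hgen y y.2
      exact ⟨⟨k, hk⟩, QuotientGroup.eq.mpr (by simpa [mem_subgroupOf] using hky)⟩
    obtain ⟨k, hk⟩ := hP.isPGroup.index (X.subgroupOf P)
    replace hk : X.relIndex P = p ^ k := hk
    rw [hk] at hle ⊢
    have hk0 : k ≠ 0 := by
      rintro rfl
      exact hnot (relIndex_eq_one.mp (by simpa using hk))
    refine le_antisymm hle ?_
    exact Nat.le_self_pow hk0 p
  refine ⟨?_, hX, hidx, hPn⟩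
  have h1 : Nat.card X * p = Nat.card P := by
    rw [← hidx, ← Nat.card_congr (subgroupOfEquivOfLe (inf_le_left : X ≤ P)).toEquiv]
    exact card_mul_index _
  rw [hX.2, hP.2, card_top, ← pow_succ] at h1
  have h2 := Nat.pow_right_injective hp.out.two_le h1
  have h3 := h.factorization_card hp.out hpm hwZ
  omega

end OneMMn

end Cfsg.Agent.H89
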