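import Mathlib
import Cfsg.Prelude.Def_HallClasses

/-!
Pronormality of the subgroups containing a Sylow subgroup, for group extensions
(after Kondrat'ev, Maslova and Revin).
-/

set_option autoImplicit false

namespace Cfsg.Agent.H89

open Subgroup

variable {G : Type*} [Group G]

/-- The conjugate `g K g⁻¹`. -/
def cj (g : G) (K : Subgroup G) : Subgroup G := K.map (MulAut.conj g).toMonoidHom

theorem mem_cj {g x : G} {K : Subgroup G} : x ∈ cj g K ↔ g⁻¹ * x * g ∈ K := by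
  constructor
  · rintro ⟨y, hy, rfl⟩
    simpa [mul_assoc] using hy
  · intro h
    exact ⟨_, h, by simp [mul_assoc]⟩

theorem cj_mul (a b : G) (K : Subgroup G) : cj (a * b) K = cj a (cj b K) := by
  ext x
  simp only [mem_cj, mul_inv_rev, mul_assoc]

theorem cj_one (K : Subgroup G) : cj 1 K = K := by
  ext x; simp [mem_cj]

theorem cj_mono (g : G) {K L : Subgroup G} (h : K ≤ L) : cj g K ≤ cj g L := map_mono h

theorem cj_sup (g : G) (K L : Subgroup G) : cj g (K ⊔ L) = cj g K ⊔ cj g L := Subgroup.map_sup _ _ _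

theorem cj_eq_of_mem_normalizer {g : G} {K : Subgroup G} (hg : g ∈ normalizer (K : Set G)) :
    cj g K = K := by
  ext x
  rw [mem_cj, mem_normalizer_iff'.1 hg (g⁻¹ * x), mul_inv_cancel_left]

theorem mem_normalizer_of_cj_eq {g : G} {K : Subgroup G} (h : cj g K = K) :
    g ∈ normalizer (K : Set G) := by
  rw [mem_normalizer_iff]
  intro x
  conv_rhs => rw [← h]
  rw [mem_cj]
  simp [mul_assoc]

theorem cj_eq_of_mem {g : G} {K : Subgroup G} (hg : g ∈ K) : cj g K = K :=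
  cj_eq_of_mem_normalizer (le_normalizer hg)

theorem map_cj {G' : Type*} [Group G'] (f : G →* G') (g : G) (K : Subgroup G) :
    (cj g K).map f = cj (f g) (K.map f) := by
  rw [cj, cj, Subgroup.map_map, Subgroup.map_map]
  congr 1
  ext x
  simp

/-- `K` and its conjugate by `g` are conjugate inside their join. -/
def ProRel (K : Subgroup G) (g : G) : Prop := ∃ x ∈ K ⊔ cj g K, cj g K = cj x K

theorem isPronormal_iff_forall (K : Subgroup G) :
    Cfsg.IsPronormal K ↔ ∀ g, ProRel K g := Iff.rfl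

theorem ProRel.of_reduce {K : Subgroup G} {g x : G} (hx : x ∈ K ⊔ cj g K)
    (h : ProRel K (x⁻¹ * g)) : ProRel K g := by
  obtain ⟨y, hy, hye⟩ := h
  have hle : K ⊔ cj (x⁻¹ * g) K ≤ K ⊔ cj g K := by
    refine sup_le le_sup_left fun z hz => ?_
    rw [cj_mul, mem_cj, inv_inv] at hz
    have h1 := mul_mem (mul_mem (inv_mem hx) (mem_sup_right hz : _ ∈ K ⊔ cj g K)) hx
    simpa [mul_assoc] using h1
  refine ⟨x * y, mul_mem hx (hle hy), ?_⟩
  rw [cj_mul x y, ← hye, ← cj_mul, mul_inv_cancel_left]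

theorem ProRel.mul_right {K : Subgroup G} {g n : G} (hn : n ∈ normalizer (K : Set G))
    (h : ProRel K g) : ProRel K (g * n) := by
  unfold ProRel
  rwa [cj_mul, cj_eq_of_mem_normalizer hn]

theorem isPronormal_map {G' : Type*} [Group G'] (f : G →* G') (hf : Function.Surjective f)
    {K : Subgroup G} (h : Cfsg.IsPronormal K) : Cfsg.IsPronormal (K.map f) := by
  intro g'
  obtain ⟨g, rfl⟩ := hf g'
  obtain ⟨x, hx, hxe⟩ := (isPronormal_iff_forall K).1 h g
  refine ⟨f x, ?_, ?_⟩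
  · have := mem_map_of_mem f hx
    rwa [Subgroup.map_sup, map_cj] at this
  · show cj (f g) (K.map f) = cj (f x) (K.map f)
    rw [← map_cj, hxe, map_cj]

theorem isPronormal_comap {G' : Type*} [Group G'] (f : G →* G') (hf : Function.Surjective f)
    {K : Subgroup G'} (h : Cfsg.IsPronormal K) : Cfsg.IsPronormal (K.comap f) := by
  intro g
  obtain ⟨x', hx', hxe⟩ := (isPronormal_iff_forall K).1 h (f g)
  have hmap : (K.comap f ⊔ cj g (K.comap f)).map f = K ⊔ cj (f g) K := by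
    rw [Subgroup.map_sup, map_cj, map_comap_eq_self_of_surjective hf]
  obtain ⟨x, hx, rfl⟩ := hmap.ge hx'
  refine ⟨x, hx, ?_⟩
  show cj g (K.comap f) = cj x (K.comap f)
  ext y
  simp only [mem_cj, mem_comap, map_mul, map_inv]
  rw [← mem_cj, hxe, mem_cj]

theorem isPronormal_subgroupOf {K N : Subgroup G} (hKN : K ≤ N) (h : Cfsg.IsPronormal K) :
    Cfsg.IsPronormal (K.subgroupOf N) := by
  intro g
  obtain ⟨x, hx, hxe⟩ := (isPronormal_iff_forall K).1 h g
  have hmap : (K.subgroupOf N).map N.subtype = K :=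
    (subgroupOf_map_subtype K N).trans (inf_of_le_left hKN)
  have hj : (K.subgroupOf N ⊔ cj g (K.subgroupOf N)).map N.subtype = K ⊔ cj (g : G) K := by
    rw [Subgroup.map_sup, map_cj, hmap]; rfl
  obtain ⟨x', hx', rfl⟩ := hj.ge hx
  refine ⟨x', hx', map_injective N.subtype_injective ?_⟩
  show (cj g (K.subgroupOf N)).map N.subtype = (cj x' (K.subgroupOf N)).map N.subtype
  rw [map_cj, map_cj, hmap]
  exact hxe

theorem proRel_of_subgroupOf {K N : Subgroup G} (hKN : K ≤ N)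
    (h : Cfsg.IsPronormal (K.subgroupOf N)) {g : G} (hg : g ∈ N) :
    ∃ x ∈ N, x ∈ K ⊔ cj g K ∧ cj g K = cj x K := by
  obtain ⟨x, hx, hxe⟩ := (isPronormal_iff_forall _).1 h ⟨g, hg⟩
  have hmap : (K.subgroupOf N).map N.subtype = K :=
    (subgroupOf_map_subtype K N).trans (inf_of_le_left hKN)
  refine ⟨x, x.2, ?_, ?_⟩
  · have := mem_map_of_mem N.subtype hx
    rwa [Subgroup.map_sup, map_cj, hmap] at this
  · have := congrArg (Subgroup.map N.subtype) hxe
    rwa [map_cj, map_cj, hmap] at this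

/-- All subgroups containing a Sylow `p`-subgroup are pronormal. -/
def SylowOverPronormal (p : ℕ) (G : Type*) [Group G] : Prop :=
  ∀ K : Subgroup G, (∃ P : Sylow p G, (P : Subgroup G) ≤ K) → Cfsg.IsPronormal K

variable {p : ℕ}

/-- A maximal `p`-subgroup of `A`. -/
def IsMaxPIn (p : ℕ) (A T : Subgroup G) : Prop :=
  T ≤ A ∧ IsPGroup p T ∧ ∀ R : Subgroup G, R ≤ A → IsPGroup p R → T ≤ R → R = T

theorem IsMaxPIn.cj {A T : Subgroup G} [A.Normal] (hT : IsMaxPIn p A T) (g : G) :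
    IsMaxPIn p A (cj g T) := by
  refine ⟨fun x hx => ?_, hT.2.1.map _, fun R hRA hR hle => ?_⟩
  · have := (inferInstance : A.Normal).conj_mem _ (hT.1 (mem_cj.1 hx)) g
    simpa [mul_assoc] using this
  · have h1 : H89.cj g⁻¹ R = T := by
      refine hT.2.2 _ (fun x hx => ?_) (hR.map _) (fun x hx => ?_)
      · have := (inferInstance : A.Normal).conj_mem _ (hRA (mem_cj.1 hx)) g⁻¹
        simpa [mul_assoc] using this
      · exact mem_cj.2 (hle (mem_cj.2 (by simpa [mul_assoc] using hx)))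
    rw [← h1, ← cj_mul, mul_inv_cancel, cj_one]

variable [Fact p.Prime] [Finite G]

theorem exists_cj_eq_of_isMaxPIn {A T T' X : Subgroup G} (hT : IsMaxPIn p A T)
    (hT' : IsMaxPIn p A T') (hTX : T ≤ X) (hTX' : T' ≤ X) :
    ∃ y ∈ X ⊓ A, cj y T = T' := by
  set Y := X ⊓ A
  have mk : ∀ S : Subgroup G, IsMaxPIn p A S → S ≤ X → ∃ R : Sylow p Y,
      (R : Subgroup Y) = S.subgroupOf Y := by
    intro S hS hSX
    refine ⟨⟨S.subgroupOf Y, hS.2.1.comap_of_injective Y.subtype Y.subtype_injective,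
      fun {Q} hQ hle => ?_⟩, rfl⟩
    have hSY : S ≤ Y := le_inf hSX hS.1
    have h1 : S ≤ Q.map Y.subtype := fun s hs => ⟨⟨s, hSY hs⟩, hle hs, rfl⟩
    have h2 := hS.2.2 _ ((map_subtype_le Q).trans inf_le_right) (hQ.map _) h1
    rw [subgroupOf, ← h2, comap_map_eq_self_of_injective Y.subtype_injective]
  obtain ⟨R, hR⟩ := mk T hT hTX
  obtain ⟨R', hR'⟩ := mk T' hT' hTX'
  obtain ⟨y, hy⟩ := MulAction.exists_smul_eq Y R R'
  refine ⟨y, y.2, ?_⟩
  have h := congrArg (fun S : Sylow p Y => (S : Subgroup Y).map Y.subtype) hy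
  have hYT : ∀ S : Subgroup G, IsMaxPIn p A S → S ≤ X → (S.subgroupOf Y).map Y.subtype = S :=
    fun S hS hSX => (subgroupOf_map_subtype S Y).trans (inf_of_le_left (le_inf hSX hS.1))
  rw [hR', hYT T' hT' hTX'] at h
  rw [← h, show ((y • R : Sylow p Y) : Subgroup Y) = cj y (R : Subgroup Y) from rfl, map_cj, hR,
    hYT T hT hTX]
  rfl

theorem isMaxPIn_of_sylow {A : Subgroup G} (S : Sylow p A) :
    IsMaxPIn p A ((S : Subgroup A).map A.subtype) := by
  refine ⟨map_subtype_le _, S.isPGroup'.map _, fun R hRA hR hle => ?_⟩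
  have h1 : R.subgroupOf A = (S : Subgroup A) :=
    S.is_maximal' (hR.comap_of_injective A.subtype A.subtype_injective)
      fun x hx => hle ⟨x, hx, rfl⟩
  rw [← h1, subgroupOf_map_subtype, inf_of_le_left hRA]

theorem exists_sylow_le_comap {G' : Type*} [Group G'] (f : G →* G') (hf : Function.Surjective f)
    {K : Subgroup G'} (h : ∃ P : Sylow p G', (P : Subgroup G') ≤ K) :
    ∃ P : Sylow p G, (P : Subgroup G) ≤ K.comap f := by
  obtain ⟨P', hP'⟩ := h
  obtain ⟨P, rfl⟩ := Sylow.mapSurjective_surjective hf p P'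
  exact ⟨P, fun x hx => hP' ⟨x, hx, rfl⟩⟩

theorem exists_sylow_le_map {G' : Type*} [Group G'] (f : G →* G') (hf : Function.Surjective f)
    {K : Subgroup G} (h : ∃ P : Sylow p G, (P : Subgroup G) ≤ K) :
    ∃ P : Sylow p G', (P : Subgroup G') ≤ K.map f := by
  obtain ⟨P, hP⟩ := h
  exact ⟨P.mapSurjective hf, map_mono hP⟩

omit [Finite G] in
theorem mem_normalizer_of_sylow_le {A T : Subgroup G} [A.Normal] (hT : IsMaxPIn p A T)
    (P : Sylow p G) (hTP : T ≤ P) : (P : Subgroup G) ≤ normalizer (T : Set G) := by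
  have heq : (P : Subgroup G) ⊓ A = T :=
    hT.2.2 _ inf_le_right (P.isPGroup'.to_le inf_le_left) (le_inf hTP hT.1)
  intro x hx
  apply mem_normalizer_of_cj_eq
  have : ∀ x ∈ (P : Subgroup G), cj x T ≤ T := by
    intro x hx y hy
    rw [← heq] at hy ⊢
    obtain ⟨z, hz, rfl⟩ := hy
    exact ⟨mul_mem (mul_mem hx hz.1) ((P : Subgroup G).inv_mem hx), (inferInstance : A.Normal).conj_mem _ hz.2 x⟩
  refine le_antisymm (this x hx) ?_
  have h2 := cj_mono x (this x⁻¹ (inv_mem hx))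
  rwa [← cj_mul, mul_inv_cancel, cj_one] at h2

/-- (ii) is necessary. -/
theorem map_normalizer_eq_of_pronormal (A : Subgroup G) [A.Normal] {K : Subgroup G}
    (h : Cfsg.IsPronormal K) :
    (normalizer (K : Set G)).map (QuotientGroup.mk' A) =
      normalizer ((K.map (QuotientGroup.mk' A) : Subgroup (G ⧸ A)) : Set (G ⧸ A)) := by
  refine le_antisymm ?_ ?_
  · rintro _ ⟨n, hn, rfl⟩
    exact mem_normalizer_of_cj_eq (by rw [← map_cj, cj_eq_of_mem_normalizer hn])
  · intro n' hn'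
    obtain ⟨n, rfl⟩ := QuotientGroup.mk'_surjective A n'
    obtain ⟨x, hx, hxe⟩ := (isPronormal_iff_forall K).1 h n
    have hle : K ⊔ cj n K ≤ A ⊔ K := by
      refine sup_le le_sup_right ?_
      rw [show A ⊔ K = (K.map (QuotientGroup.mk' A)).comap (QuotientGroup.mk' A) by
        rw [comap_map_eq, QuotientGroup.ker_mk', sup_comm], ← map_le_iff_le_comap, map_cj,
        cj_eq_of_mem_normalizer hn']
    have hx' : x ∈ ((A ⊔ K : Subgroup G) : Set G) := hle hx
    rw [normal_mul] at hx'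
    obtain ⟨a, ha, k, hk, rfl⟩ := hx'
    rw [cj_mul, cj_eq_of_mem hk] at hxe
    refine ⟨a⁻¹ * n, mem_normalizer_of_cj_eq (by rw [cj_mul, hxe, ← cj_mul, inv_mul_cancel, cj_one]),
      ?_⟩
    rw [map_mul, map_inv, show (QuotientGroup.mk' A) a = 1 from (QuotientGroup.eq_one_iff a).2 ha,
      inv_one, one_mul]

/-- (i) is necessary. -/
theorem sylowOverPronormal_normalizer_quotient (A : Subgroup G) [A.Normal] {T : Subgroup G}
    (hT : IsMaxPIn p A T) [(T.subgroupOf (normalizer (T : Set G))).Normal]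
    (h : SylowOverPronormal p G) :
    SylowOverPronormal p (↥(normalizer (T : Set G)) ⧸ T.subgroupOf (normalizer (T : Set G))) := by
  intro K hK
  set N := normalizer (T : Set G)
  set π := QuotientGroup.mk' (T.subgroupOf N)
  obtain ⟨S, hS⟩ := exists_sylow_le_comap π (QuotientGroup.mk'_surjective _) hK
  obtain ⟨P, hP⟩ := hT.2.1.exists_le_sylow
  obtain ⟨n, hn⟩ := MulAction.exists_smul_eq N (P.subtype (mem_normalizer_of_sylow_le hT P hP)) S
  have hsyl : ∃ P' : Sylow p G, (P' : Subgroup G) ≤ (K.comap π).map N.subtype := by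
    refine ⟨(n : G) • P, fun x hx => ?_⟩
    have hx' : (n : G)⁻¹ * x * (n : G) ∈ (P : Subgroup G) :=
      mem_cj.1 (show x ∈ cj (n : G) (P : Subgroup G) from hx)
    have hxN : x ∈ N := by
      have := mul_mem (mul_mem n.2 (mem_normalizer_of_sylow_le hT P hP hx')) (inv_mem n.2)
      simpa [mul_assoc] using this
    refine ⟨⟨x, hxN⟩, hS ?_, rfl⟩
    rw [← hn]
    exact mem_cj.2 hx'
  have h1 := isPronormal_subgroupOf (map_subtype_le _) (h _ hsyl)
  rw [subgroupOf, comap_map_eq_self_of_injective N.subtype_injective] at h1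
  have h2 := isPronormal_map π (QuotientGroup.mk'_surjective _) h1
  rwa [map_comap_eq_self_of_surjective (QuotientGroup.mk'_surjective _)] at h2

/-- Sufficiency. -/
theorem sylowOverPronormal_of_conditions (A : Subgroup G) [A.Normal] {T : Subgroup G}
    (hT : IsMaxPIn p A T) [(T.subgroupOf (normalizer (T : Set G))).Normal]
    (hA : SylowOverPronormal p A) (hQ : SylowOverPronormal p (G ⧸ A))
    (h1 : SylowOverPronormal p (↥(normalizer (T : Set G)) ⧸ T.subgroupOf (normalizer (T : Set G))))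
    (h2 : ∀ K : Subgroup G, (∃ P : Sylow p G, (P : Subgroup G) ≤ K) →
      (normalizer (K : Set G)).map (QuotientGroup.mk' A) =
        normalizer ((K.map (QuotientGroup.mk' A) : Subgroup (G ⧸ A)) : Set (G ⧸ A))) :
    SylowOverPronormal p G := by
  intro K₀ hK₀
  set N := normalizer (T : Set G)
  obtain ⟨P, hTP⟩ := hT.2.1.exists_le_sylow
  have hPN := mem_normalizer_of_sylow_le hT P hTP
  -- reduce to a subgroup containing `P`
  obtain ⟨P₀, hP₀⟩ := hK₀
  obtain ⟨g₀, hg₀⟩ := MulAction.exists_smul_eq G P₀ P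
  suffices hmain : ∀ K : Subgroup G, (P : Subgroup G) ≤ K → ∀ g, ProRel K g by
    have hPK : (P : Subgroup G) ≤ cj g₀ K₀ := hg₀ ▸ cj_mono g₀ hP₀
    have h3 := isPronormal_map (MulAut.conj g₀⁻¹).toMonoidHom (MulAut.conj g₀⁻¹).surjective
      ((isPronormal_iff_forall _).2 (hmain _ hPK))
    change Cfsg.IsPronormal (cj g₀⁻¹ (cj g₀ K₀)) at h3
    rwa [← cj_mul, inv_mul_cancel, cj_one] at h3
  intro K hPK g
  have hKs : ∃ S : Sylow p G, (S : Subgroup G) ≤ K := ⟨P, hPK⟩
  have hTK : T ≤ K := hTP.trans hPK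
  set L := K ⊓ N with hLdef
  have hTN : T ≤ N := le_normalizer
  have hLpro : Cfsg.IsPronormal (L.subgroupOf N) := by
    have h3 := isPronormal_comap _ (QuotientGroup.mk'_surjective (T.subgroupOf N))
      (h1 ((L.subgroupOf N).map (QuotientGroup.mk' _))
        (exists_sylow_le_map _ (QuotientGroup.mk'_surjective _)
          ⟨P.subtype hPN, fun x hx => ⟨hPK hx, x.2⟩⟩))
    rwa [comap_map_eq, QuotientGroup.ker_mk', sup_of_le_left] at h3
    exact fun x hx => ⟨hTK hx, x.2⟩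
  set B := K ⊓ A with hBdef
  have hTB : T ≤ B := le_inf hTK hT.1
  have hKBL : K = B ⊔ L := by
    refine le_antisymm (fun k hk => ?_) (sup_le inf_le_left inf_le_left)
    obtain ⟨b, hb, hbe⟩ := exists_cj_eq_of_isMaxPIn hT (hT.cj k) hTK
      (show cj k T ≤ K by rw [← cj_eq_of_mem hk]; exact cj_mono k hTK)
    have hn : b⁻¹ * k ∈ N := by
      apply mem_normalizer_of_cj_eq
      rw [cj_mul, ← hbe, ← cj_mul, inv_mul_cancel, cj_one]
    rw [show k = b * (b⁻¹ * k) by group]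
    exact mul_mem (mem_sup_left hb) (mem_sup_right ⟨K.mul_mem (K.inv_mem hb.1) hk, hn⟩)
  -- step 1: reduce to `g` normalizing the image of `K`
  obtain ⟨x', hx', hxe⟩ :=
    (isPronormal_iff_forall _).1 (hQ _ (exists_sylow_le_map _ (QuotientGroup.mk'_surjective A) hKs))
      (QuotientGroup.mk' A g)
  rw [← map_cj, ← Subgroup.map_sup] at hx'
  obtain ⟨x, hx, rfl⟩ := hx'
  refine ProRel.of_reduce hx ?_
  have hn : QuotientGroup.mk' A (x⁻¹ * g) ∈
      normalizer ((K.map (QuotientGroup.mk' A) : Subgroup (G ⧸ A)) : Set (G ⧸ A)) := by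
    apply mem_normalizer_of_cj_eq
    rw [map_mul, map_inv, cj_mul, hxe, ← cj_mul, inv_mul_cancel, cj_one]
  rw [← h2 K hKs] at hn
  obtain ⟨n, hn, hne⟩ := hn
  -- step 2: reduce to an element of `A`
  set a := x⁻¹ * g * n⁻¹ with ha
  have haA : a ∈ A := by
    rw [← QuotientGroup.eq_one_iff, ha]
    show QuotientGroup.mk' A (x⁻¹ * g * n⁻¹) = 1
    rw [map_mul _ _ n⁻¹, map_inv, ← hne, mul_inv_cancel]
  rw [show x⁻¹ * g = a * n by rw [ha]; group]
  refine ProRel.mul_right hn ?_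
  -- step 3: reduce to an element of `A` normalizing `T`
  obtain ⟨y, hy, hye⟩ := exists_cj_eq_of_isMaxPIn hT (hT.cj a) (hTK.trans le_sup_left)
    ((cj_mono a hTK).trans le_sup_right : cj a T ≤ K ⊔ cj a K)
  refine ProRel.of_reduce hy.1 ?_
  set b := y⁻¹ * a with hb
  have hbA : b ∈ A := mul_mem (inv_mem hy.2) haA
  have hbN : b ∈ N := by
    apply mem_normalizer_of_cj_eq
    rw [hb, cj_mul, ← hye, ← cj_mul, inv_mul_cancel, cj_one]
  -- step 4: reduce to an element also normalizing `L`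
  obtain ⟨z, hzN, hz, hze⟩ := proRel_of_subgroupOf (inf_le_right : L ≤ N) hLpro hbN
  have hz' : z ∈ K ⊔ cj b K :=
    sup_le_sup (inf_le_left : L ≤ K) (cj_mono b inf_le_left) hz
  refine ProRel.of_reduce hz' ?_
  set c := z⁻¹ * b with hc
  have hcL : c ∈ normalizer (L : Set G) := by
    apply mem_normalizer_of_cj_eq
    rw [hc, cj_mul, hze, ← cj_mul, inv_mul_cancel, cj_one]
  have hKA : ∀ w ∈ K ⊔ cj b K, w ∈ A ⊔ K := by
    intro w hw
    refine (sup_le le_sup_right ?_ : K ⊔ cj b K ≤ A ⊔ K) hw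
    intro u hu
    have h4 : b⁻¹ * u * b ∈ A ⊔ K := mem_sup_right (mem_cj.1 hu)
    have h5 := mul_mem (mul_mem (mem_sup_left hbA : b ∈ A ⊔ K) h4) (inv_mem (mem_sup_left hbA))
    simpa [mul_assoc] using h5
  have hc' : c ∈ ((A ⊔ L : Subgroup G) : Set G) := by
    have hle : A ⊔ K ≤ A ⊔ L := by
      rw [hKBL]; exact sup_le le_sup_left (sup_le (inf_le_right.trans le_sup_left) le_sup_right)
    exact hle (mul_mem (inv_mem (hKA z hz')) (mem_sup_left hbA))
  rw [normal_mul] at hc'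
  obtain ⟨d, hdA, l, hl, hdl⟩ := hc'
  rw [← hdl]
  refine ProRel.mul_right (le_normalizer hl.1) ?_
  have hd1 : d = c * l⁻¹ := by rw [← hdl]; group
  have hdN : d ∈ N := by
    rw [hd1]; exact mul_mem (mul_mem (inv_mem hzN) hbN) (inv_mem hl.2)
  have hdL : d ∈ normalizer (L : Set G) := by
    rw [hd1]; exact mul_mem hcL (inv_mem (le_normalizer hl))
  clear_value a b c
  -- step 5
  set J := B ⊔ cj d B with hJ
  have hJA : J ≤ A := by
    refine sup_le inf_le_right fun w hw => ?_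
    have := (inferInstance : A.Normal).conj_mem _ (mem_cj.1 hw).2 d
    simpa [mul_assoc] using this
  have hBA : Cfsg.IsPronormal (B.subgroupOf A) := by
    refine hA _ ?_
    obtain ⟨S⟩ : Nonempty (Sylow p A) := inferInstance
    obtain ⟨m, hm, hme⟩ := exists_cj_eq_of_isMaxPIn (X := A) (isMaxPIn_of_sylow S) hT
      (map_subtype_le _) hT.1
    refine ⟨(⟨m, hm.2⟩ : A) • S, fun w hw => mem_subgroupOf.2 (hTB ?_)⟩
    rw [← hme]
    have hw' := mem_cj.1 (show w ∈ cj (⟨m, hm.2⟩ : A) (S : Subgroup A) from hw)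
    exact mem_cj.2 ⟨_, hw', rfl⟩
  obtain ⟨y₀, -, hy₀, hy₀e⟩ := proRel_of_subgroupOf (inf_le_right : B ≤ A) hBA hdA
  have hTdB : T ≤ cj d B := by
    rw [← cj_eq_of_mem_normalizer hdN]; exact cj_mono d hTB
  obtain ⟨e, he, hee⟩ := exists_cj_eq_of_isMaxPIn (hT.cj y₀) hT
    (show cj y₀ T ≤ cj d B by rw [hy₀e]; exact cj_mono y₀ hTB) hTdB
  set y₁ := e * y₀ with hy₁
  have hy₁J : y₁ ∈ J := mul_mem (mem_sup_right he.1) hy₀
  have hy₁N : y₁ ∈ N := mem_normalizer_of_cj_eq (by rw [hy₁, cj_mul, hee])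
  have hy₁e : cj y₁ B = cj d B := by
    rw [hy₁, cj_mul, ← hy₀e, cj_eq_of_mem he.1]
  set M := J ⊓ normalizer ((cj d B : Subgroup G) : Set G) ⊓ N with hM
  have hLB : ∀ l ∈ L, cj l B = B ∧ cj l (cj d B) = cj d B := by
    have h6 : ∀ l ∈ L, cj l B = B := by
      intro l hl
      have hle : ∀ l ∈ L, cj l B ≤ B := by
        intro l hl w hw
        have hw' := mem_cj.1 hw
        refine ⟨?_, ?_⟩
        · have := mul_mem (mul_mem hl.1 hw'.1) (K.inv_mem hl.1)
          simpa [mul_assoc] using this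
        · have := (inferInstance : A.Normal).conj_mem _ hw'.2 l
          simpa [mul_assoc] using this
      refine le_antisymm (hle l hl) ?_
      have h7 := cj_mono l (hle l⁻¹ (inv_mem hl))
      rwa [← cj_mul, mul_inv_cancel, cj_one] at h7
    intro l hl
    refine ⟨h6 l hl, ?_⟩
    have h8 : d⁻¹ * l * d ∈ L := by
      rw [← mem_cj, cj_eq_of_mem_normalizer hdL]; exact hl
    rw [← cj_mul, show l * d = d * (d⁻¹ * l * d) by group, cj_mul, h6 _ h8]
  have hLJ : ∀ l ∈ L, cj l J = J := fun l hl => by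
    rw [hJ, cj_sup, (hLB l hl).1, (hLB l hl).2]
  have hcomm : ∀ l ∈ L, y₁ * l * y₁⁻¹ * l⁻¹ ∈ M := by
    intro l hl
    refine ⟨⟨?_, ?_⟩, ?_⟩
    · have h9 : l * y₁⁻¹ * l⁻¹ ∈ J := by
        rw [← hLJ l hl, mem_cj]
        simpa [mul_assoc] using inv_mem hy₁J
      rw [show y₁ * l * y₁⁻¹ * l⁻¹ = y₁ * (l * y₁⁻¹ * l⁻¹) by group]
      exact mul_mem hy₁J h9
    · apply mem_normalizer_of_cj_eq
      have h10 : cj y₁⁻¹ (cj d B) = B := by rw [← hy₁e, ← cj_mul, inv_mul_cancel, cj_one]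
      rw [cj_mul, (hLB _ (inv_mem hl)).2, cj_mul, h10, cj_mul, (hLB l hl).1, hy₁e]
    · exact mul_mem (mul_mem (mul_mem hy₁N hl.2) (N.inv_mem hy₁N)) (N.inv_mem hl.2)
  obtain ⟨m, hmN, hm, hme⟩ := proRel_of_subgroupOf (inf_le_right : L ≤ N) hLpro hy₁N
  have hLM : L ⊔ cj y₁ L ≤ M ⊔ L := by
    refine sup_le le_sup_right fun w hw => ?_
    have hw' := mem_cj.1 hw
    rw [show w = (y₁ * (y₁⁻¹ * w * y₁) * y₁⁻¹ * (y₁⁻¹ * w * y₁)⁻¹) * (y₁⁻¹ * w * y₁) by group]
    exact mul_mem (mem_sup_left (hcomm _ hw')) (mem_sup_right hw')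
  have hMn : L ≤ normalizer (M : Set G) := by
    intro l hl
    apply mem_normalizer_of_cj_eq
    have hle : ∀ l ∈ L, cj l M ≤ M := by
      intro l hl w hw
      have hw' := mem_cj.1 hw
      refine ⟨⟨?_, ?_⟩, ?_⟩
      · rw [← hLJ l hl]; exact mem_cj.2 hw'.1.1
      · apply mem_normalizer_of_cj_eq
        have h11 : cj (l * (l⁻¹ * w * l) * l⁻¹) (cj d B) = cj d B := by
          rw [cj_mul, (hLB _ (inv_mem hl)).2, cj_mul, cj_eq_of_mem_normalizer hw'.1.2,
            (hLB l hl).2]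
        rwa [show l * (l⁻¹ * w * l) * l⁻¹ = w by group] at h11
      · have := mul_mem (mul_mem hl.2 hw'.2) (N.inv_mem hl.2)
        simpa [mul_assoc] using this
    refine le_antisymm (hle l hl) ?_
    have h7 := cj_mono l (hle l⁻¹ (inv_mem hl))
    rwa [← cj_mul, mul_inv_cancel, cj_one] at h7
  have hm' : m ∈ ((M ⊔ L : Subgroup G) : Set G) := hLM hm
  rw [coe_mul_of_right_le_normalizer_left M L hMn] at hm'
  obtain ⟨m', hm', l', hl', rfl⟩ := hm'
  simp only [] at hme
  rw [cj_mul m' l', cj_eq_of_mem hl'] at hme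
  refine ⟨m'⁻¹ * y₁, ?_, ?_⟩
  · have hle : J ≤ K ⊔ cj d K := sup_le_sup inf_le_left (cj_mono d inf_le_left)
    exact hle (mul_mem (inv_mem hm'.1.1) hy₁J)
  · have e1 : cj (m'⁻¹ * y₁) B = cj d B := by
      rw [cj_mul, hy₁e, cj_eq_of_mem_normalizer (inv_mem hm'.1.2)]
    have e2 : cj (m'⁻¹ * y₁) L = L := by
      rw [cj_mul, hme, ← cj_mul, inv_mul_cancel, cj_one]
    rw [hKBL, cj_sup, cj_sup, e1, e2, cj_eq_of_mem_normalizer hdL]

/-- If the Sylow subgroups are self-normalizing, their overgroups are self-normalizing and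
pronormal. -/
theorem overgroups_of_selfNormalizing
    (h : ∀ P : Sylow p G, normalizer ((P : Subgroup G) : Set G) = P) :
    SylowOverPronormal p G ∧
      ∀ K : Subgroup G, (∃ P : Sylow p G, (P : Subgroup G) ≤ K) → normalizer (K : Set G) = K := by
  have key : ∀ (K : Subgroup G) (P : Sylow p G), (P : Subgroup G) ≤ K → ∀ g : G,
      ∀ X : Subgroup G, K ≤ X → cj g K ≤ X → ∃ x ∈ X, x⁻¹ * g ∈ (P : Subgroup G) := by
    intro K P hP g X h1 h2
    have hgP : ((g • P : Sylow p G) : Subgroup G) ≤ X := (cj_mono g hP).trans h2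
    have hPX : (P : Subgroup G) ≤ X := hP.trans h1
    obtain ⟨x, hx⟩ := MulAction.exists_smul_eq X (P.subtype hPX) ((g • P).subtype hgP)
    have h3 := congrArg (fun S : Sylow p X => (S : Subgroup X).map X.subtype) hx
    change (cj x ((P : Subgroup G).subgroupOf X)).map X.subtype =
      ((cj g (P : Subgroup G)).subgroupOf X).map X.subtype at h3
    rw [map_cj, subgroupOf_map_subtype, subgroupOf_map_subtype, inf_of_le_left hPX,
      inf_of_le_left (show cj g (P : Subgroup G) ≤ X from hgP)] at h3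
    refine ⟨x, x.2, ?_⟩
    rw [← h P]
    apply mem_normalizer_of_cj_eq
    rw [cj_mul, ← h3, ← cj_mul]
    simp [cj_one]
  refine ⟨fun K ⟨P, hP⟩ g => ?_, fun K ⟨P, hP⟩ => le_antisymm (fun g hg => ?_) le_normalizer⟩
  · obtain ⟨x, hx, hxg⟩ := key K P hP g (K ⊔ cj g K) le_sup_left le_sup_right
    refine ⟨x, hx, ?_⟩
    show cj g K = cj x K
    rw [show g = x * (x⁻¹ * g) by group, cj_mul, cj_eq_of_mem (hP hxg)]
  · obtain ⟨x, hx, hxg⟩ := key K P hP g K le_rfl (cj_eq_of_mem_normalizer hg).le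
    rw [show g = x * (x⁻¹ * g) by group]
    exact mul_mem hx (hP hxg)

end Cfsg.Agent.H89
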